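import Cfsg.Agent.H892.EP.Good
import Cfsg.Agent.H809.Evn.Red
import Cfsg.Agent.H809.Evn.Cyc
import Cfsg.Agent.H396.CommTab4

/-!
# S4929: the rows and their assembly

* `ParU r G` : `χ(1) ≡ dim χ^U (mod 2)` for every irreducible character and every Sylow `r`-subgroup `U`;
* `EvAt.tr`, `Ev.tr` : transport along isomorphisms;
* `evAt_of_real_cyclic` : cyclic Sylow `p`-subgroups and a real `p`-element;
* `OddRow`, `SpRow`, `SpRows`, `EvenExc`, `Rows` : one field per family.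
-/

set_option autoImplicit false
set_option linter.unusedSectionVars false

open scoped ComplexConjugate
open Cfsg Cfsg.Agent.Characters.Core

namespace Cfsg.Agent.H892.EP

universe u v

/-- `χ(1) ≡ dim χ^U (mod 2)` -/
def ParU (r : ℕ) (G : Type u) [Group G] : Prop :=
  ∀ (χ : IrrCharacter G) (U : Sylow r G), ∃ z : ℤ, md (U : Subgroup G) (χ : G → ℂ) - (χ : G → ℂ) 1 = 2 * z

section

variable {G : Type u} {L : Type v} [Group G] [Group L] [Finite G] [Finite L]

theorem parU_of_inv2 {r : ℕ} [Fact r.Prime] (hr : r ≠ 2) (h : Inv2 r G) : ParU r G := by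
  obtain ⟨U, A, hA, hn, hfix⟩ := h
  intro χ V
  have hU : Odd (Nat.card (U : Subgroup G)) := by
    obtain ⟨k, hk⟩ := IsPGroup.iff_card.1 U.isPGroup'
    rw [hk]
    exact ((Fact.out : r.Prime).odd_of_ne_two hr).pow
  obtain ⟨g, rfl⟩ := MulAction.exists_smul_eq G U V
  have hcl := isCharacter_isClassFunction (isIrr_isCharacter χ.2)
  have h1 : md ((g • U : Sylow r G) : Subgroup G) (χ : G → ℂ) = md (U : Subgroup G) (χ : G → ℂ) := by
    have := Fintype.ofFinite (U : Subgroup G)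
    have := Fintype.ofFinite ((g • U : Sylow r G) : Subgroup G)
    rw [md_eq, md_eq, Nat.card_congr (U.equivSMul g).symm.toEquiv]
    congr 1
    refine (Fintype.sum_equiv (U.equivSMul g).toEquiv _ _ fun x => ?_).symm
    have h2 : (((U.equivSMul g) x : ((g • U : Sylow r G) : Subgroup G)) : G) = g * x * g⁻¹ := rfl
    show (χ : G → ℂ) x = (χ : G → ℂ) ((U.equivSMul g) x : ((g • U : Sylow r G) : Subgroup G))
    rw [h2]
    exact (hcl x g).symm
  rw [h1]
  exact parity_one (U : Subgroup G) A hU hA hn hfix (isIrr_isCharacter χ.2)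

theorem par_of_parU {r : ℕ} [Fact r.Prime] (h : ParU r G) : Par r G := by
  intro χ hχ
  obtain ⟨U⟩ : Nonempty (Sylow r G) := inferInstance
  obtain ⟨z, hz⟩ := h χ U
  exact even_of_md hz (m := 0) (by rw [(md_eq_zero_iff _ _).2 (hχ U)]; simp)

theorem EvAt.tr {p : ℕ} [Fact p.Prime] (e : G ≃* L) (h : EvAt p G) : EvAt p L := by
  intro M hM
  obtain ⟨χ, hχ, h2⟩ := h M hM
  refine ⟨_, Cfsg.Agent.H684.BlockTools.infl_mem hM e.symm.toMonoidHom e.symm.surjective hχ, ?_⟩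
  have : charDegree ((Cfsg.Agent.H684.BlockTools.infl e.symm.toMonoidHom e.symm.surjective χ : IrrCharacter L) :
      L → ℂ) = charDegree (χ : G → ℂ) := by
    apply Cfsg.Agent.Blocks.Basic.charDegree_of_eq
    show (χ : G → ℂ) (e.symm 1) = _
    rw [map_one, Cfsg.Agent.Blocks.Basic.irr_one_eq_charDegree χ.2]
  rw [this]
  exact h2

theorem Ev.tr (e : G ≃* L) (h : Ev G) : Ev L := by
  intro p hp hp2 hd
  have : Fact p.Prime := ⟨hp⟩
  exact (h p hp hp2 (by rw [Nat.card_congr e.toEquiv]; exact hd)).tr e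

theorem evAt_of_real_cyclic {p : ℕ} [Fact p.Prime] (hp2 : p ≠ 2)
    (hcyc : ∀ P : Sylow p G, IsCyclic (P : Subgroup G)) {z : G} (hz : orderOf z = p) (hr : IsConj z z⁻¹) :
    EvAt p G := fun M hM =>
  Cfsg.Agent.H809.Evn.exists_even_of_real_cyclic hM hp2 hcyc z ⟨1, by rw [hz, pow_one]⟩
    (fun h => (Fact.out : p.Prime).one_lt.ne' (by rw [← hz, h, orderOf_one])) hr

theorem evAt_of_over {p : ℕ} [Fact p.Prime] (N : Subgroup G) [N.Normal] (h : EvAt p N) : EvAt p G := fun M hM =>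
  Cfsg.Agent.H809.Evn.exists_even_over hM N (h M hM)

end

/-! ### Rows -/

/-- the row of a family `P` of groups of Lie type of odd characteristic: all odd primes -/
def OddRow (P : ℕ → (K : Type) → [Group K] → Prop) : Prop :=
  ∀ (t : ℕ) (K : Type) [Group K] [Finite K] [IsSimpleGroup K], ¬ IsMulCommutative K → t.Prime → t ≠ 2 → P t K → Ev K

/-- the row of a family of groups: all odd primes -/
def SpRow (P : (K : Type) → [Group K] → Prop) : Prop :=
  ∀ (K : Type) [Group K] [Finite K] [IsSimpleGroup K], P K → Ev K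

/-- the sporadic rows (`M₂₂` without the prime 7) -/
structure SpRows : Prop where
  m11 : SpRow fun K => Spor.IsoM11 K
  m12 : SpRow fun K => Spor.IsoM12 K
  m22 : ∀ (K : Type) [Group K] [Finite K] [IsSimpleGroup K], Spor.IsoM22 K → ∀ p : ℕ, p.Prime → p ≠ 2 → p ≠ 7 →
    p ∣ Nat.card K → EvAt p K
  m23 : SpRow fun K => Spor.IsoM23 K
  m24 : SpRow fun K => Spor.IsoM24 K
  j1 : SpRow fun K => Spor.IsoJ1 K
  j2 : SpRow fun K => Spor.IsoJ2 K
  j3 : SpRow fun K => Spor.IsoJ3 K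
  j4 : SpRow fun K => Spor.IsoJ4 K
  co1 : SpRow fun K => Spor.IsoCo1 K
  co2 : SpRow fun K => Spor.IsoCo2 K
  co3 : SpRow fun K => Spor.IsoCo3 K
  mcl : SpRow fun K => Spor.IsoMcL K
  hs : SpRow fun K => Spor.IsoHS K
  suz : SpRow fun K => Spor.IsoSuz K
  he : SpRow fun K => Spor.IsoHe K
  ru : SpRow fun K => Spor.IsoRu K
  on : SpRow fun K => Spor.IsoON K
  ly : SpRow fun K => Spor.IsoLy K
  fi22 : SpRow fun K => Spor.IsoFi22 K
  fi23 : SpRow fun K => Spor.IsoFi23 K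
  fi24 : SpRow fun K => Spor.IsoFi24' K
  hn : SpRow fun K => Spor.IsoHN K
  th : SpRow fun K => Spor.IsoTh K
  b : SpRow fun K => Spor.IsoB K
  m : SpRow fun K => Spor.IsoM K

/-- the exceptional groups of Lie type of characteristic 2 (without `HasCG`) -/
structure EvenExc : Prop where
  /-- (EVEN-GEN) all groups of characteristic 2 with `HasCG` -/
  gen : ∀ (K : Type) [Group K] [Finite K] [IsSimpleGroup K], H396.HasCG 2 K → IsLieTypeChar 2 K → Ev K
  psp2 : ∀ (m : ℕ), 3 ≤ m → ∀ (F : Type) [Field F] [Fintype F], Fintype.card F = 2 → Ev (PSp m F)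
  f42 : ∀ (F : Type) [Field F] [Fintype F], Fintype.card F = 2 → Ev ↥(Lie.chevF4.group F)

/-- all rows -/
structure Rows : Prop where
  alt : ∀ n : ℕ, 5 ≤ n → Ev ↥(alternatingGroup (Fin n))
  /-- `PSL₂(q)`, all `q ≥ 4` -/
  psl2 : ∀ (F : Type) [Field F] [Fintype F], 4 ≤ Fintype.card F → Ev (Matrix.ProjectiveSpecialLinearGroup (Fin 2) F)
  /-- `PSU₃(q)`, all `q > 2` -/
  psu3 : ∀ (F : Type) [Field F] [Fintype F] (q : ℕ), Fintype.card F = q ^ 2 → q ≠ 2 → Ev (PSU 3 F q)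
  sz : SpRow fun K => Lie.IsoSuzuki K
  ree : SpRow fun K => Lie.IsoRee K
  tf4 : SpRow fun K => Lie.Iso2F4 K
  tits : SpRow fun K => Lie.IsoTits K
  even : EvenExc
  psl : OddRow fun t K => ∃ (F : Type) (_ : Field F) (_ : Fintype F) (_ : CharP F t) (n : ℕ),
    3 ≤ n ∧ Nonempty (K ≃* Matrix.ProjectiveSpecialLinearGroup (Fin n) F)
  psp : OddRow fun t K => ∃ (F : Type) (_ : Field F) (_ : Fintype F) (_ : CharP F t) (m : ℕ),
    2 ≤ m ∧ (Even m ∨ Fintype.card F % 4 = 1) ∧ Nonempty (K ≃* PSp m F)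
  psp3 : OddRow fun t K => ∃ (F : Type) (_ : Field F) (_ : Fintype F) (_ : CharP F t) (m : ℕ),
    3 ≤ m ∧ Odd m ∧ Fintype.card F % 4 = 3 ∧ Nonempty (K ≃* PSp m F)
  psu : OddRow fun t K => ∃ (F : Type) (_ : Field F) (_ : Fintype F) (_ : CharP F t) (n q : ℕ),
    Fintype.card F = q ^ 2 ∧ 4 ≤ n ∧ Nonempty (K ≃* PSU n F q)
  oodd : OddRow fun t K => IsPOmegaOddChar t K
  oplus : OddRow fun t K => IsPOmegaPlusChar t K
  ominus : OddRow fun t K => IsPOmegaMinusChar t K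
  g2 : OddRow fun t K => ∃ (F : Type) (_ : Field F) (_ : Fintype F) (_ : CharP F t),
    3 ≤ Fintype.card F ∧ Nonempty (K ≃* Lie.chevG2.group F)
  f4 : OddRow fun t K => ∃ (F : Type) (_ : Field F) (_ : Fintype F) (_ : CharP F t), Nonempty (K ≃* Lie.chevF4.group F)
  e6 : OddRow fun t K => ∃ (F : Type) (_ : Field F) (_ : Fintype F) (_ : CharP F t), Nonempty (K ≃* Lie.chevE6.group F)
  e7 : OddRow fun t K => ∃ (F : Type) (_ : Field F) (_ : Fintype F) (_ : CharP F t), Nonempty (K ≃* Lie.chevE7.group F)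
  e8 : OddRow fun t K => ∃ (F : Type) (_ : Field F) (_ : Fintype F) (_ : CharP F t), Nonempty (K ≃* Lie.chevE8.group F)
  te6 : OddRow fun t K => ∃ (F : Type) (_ : Field F) (_ : Fintype F) (_ : CharP F t) (q : ℕ), IsPrimePow q ∧
    Fintype.card F = q ^ 2 ∧ Nonempty (K ≃* Lie.twistedE6 F q)
  td4 : OddRow fun t K => ∃ (F : Type) (_ : Field F) (_ : Fintype F) (_ : CharP F t) (q : ℕ), IsPrimePow q ∧
    Fintype.card F = q ^ 3 ∧ Nonempty (K ≃* Lie.twistedD4 F q)
  spor : SpRows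

end Cfsg.Agent.H892.EP
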