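import Cfsg.Agent.H892.EP.Rows

/-!
# Root group data with moved torus elements (S4929)

`HasTM r m G` : `G` has a root group datum of characteristic `r` (any rank `≥ 1`), generated by the root groups, with
abelian torus `T`, such that

* every odd prime dividing `|T|` divides the order of an element `t ∈ T` of order a power of `p` with `n i * t ≠ t * n i`
  for some simple reflection `n i`;
* every odd prime divisor of `m` divides `|T|`;
* for `r = 2`, the non-simple positive root groups are contained in `⁅U, U⁆` (`CommGen`).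
-/

set_option autoImplicit false

open CoxeterSystem Cfsg.Agent.ChevalleyStructure.CoxeterGeom Cfsg.Agent.Tits.Roots Cfsg.Agent.Tits.Core
  Cfsg.Agent.Nodes.Reps Cfsg.Agent.Nodes.BNOf Cfsg.Agent.Omega.EH3.Kf.Lev

namespace Cfsg.Agent.H892.EP

universe u v

/-- root group data with moved torus elements -/
def HasTM (r m : ℕ) (G : Type u) [Group G] : Prop :=
  ∃ (l : ℕ) (M : CoxeterMatrix (Fin l)) (A : Fin l → Fin l → ℤ) (h : IsCartan M A) (T : Subgroup G) (n : Fin l → G)
    (X : (Fin l → ℤ) → Subgroup G), Finite M.Group ∧ RGD M.toCoxeterSystem h r T n X ∧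
      Nodes.RGDLib.G1 M.toCoxeterSystem h X = ⊤ ∧ (∀ a ∈ T, ∀ b ∈ T, a * b = b * a) ∧
      (∀ p : ℕ, p.Prime → p ≠ 2 → p ∣ Nat.card T →
        ∃ i, ∃ t ∈ T, (∃ k : ℕ, t ^ p ^ k = 1) ∧ n i * t ≠ t * n i) ∧
      (∀ p : ℕ, p.Prime → p ≠ 2 → p ∣ m → p ∣ Nat.card T) ∧
      (r = 2 → CommGen M.toCoxeterSystem h X)

theorem HasTM.of_equiv {r m : ℕ} {G : Type u} {H : Type v} [Group G] [Group H] (e : G ≃* H) (hG : HasTM r m G) :
    HasTM r m H := by
  obtain ⟨l, M, A, h, T, n, X, hW, R, hX, hT, h1, h2, h3⟩ := hG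
  have hc : Nat.card (T.map e.toMonoidHom) = Nat.card T := Subgroup.card_map_of_injective e.injective
  refine ⟨l, M, A, h, T.map e.toMonoidHom, fun i => e (n i), fun x => (X x).map e.toMonoidHom, hW,
    Nodes.RGDLib.rgd_map_of_injective R e.toMonoidHom e.injective, ?_, ?_, ?_, ?_, ?_⟩
  · have h1 : (Nodes.RGDLib.G1 M.toCoxeterSystem h X).map e.toMonoidHom =
        Nodes.RGDLib.G1 M.toCoxeterSystem h (fun x => (X x).map e.toMonoidHom) := by
      unfold Nodes.RGDLib.G1 RGD.Sup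
      rw [Subgroup.map_iSup]
    rw [← h1, hX, Subgroup.map_top_of_surjective _ e.surjective]
  · rintro _ ⟨a, ha, rfl⟩ _ ⟨b, hb, rfl⟩
    rw [← map_mul, hT a ha b hb, map_mul]
  · intro p hp hp2 hd
    rw [hc] at hd
    obtain ⟨i, t, ht, ⟨k, hk⟩, hne⟩ := h1 p hp hp2 hd
    refine ⟨i, e t, ⟨t, ht, rfl⟩, ⟨k, by rw [← map_pow, hk, map_one]⟩, fun h => hne (e.injective ?_)⟩
    rw [map_mul, map_mul]
    exact h
  · intro p hp hp2 hd
    rw [hc]
    exact h2 p hp hp2 hd
  · intro hr r' hr' h0 hs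
    have h4 : (RGD.Sup X (RGD.Pos M.toCoxeterSystem h)).map e.toMonoidHom =
        RGD.Sup (fun x => (X x).map e.toMonoidHom) (RGD.Pos M.toCoxeterSystem h) := by
      unfold RGD.Sup
      rw [Subgroup.map_iSup]
    rw [← h4, ← Subgroup.map_commutator]
    exact Subgroup.map_mono (h3 hr r' hr' h0 hs)

end Cfsg.Agent.H892.EP
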