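import Cfsg.Agent.H892.EP.Basic

/-!
# S4929: the principal block of a simple group contains a character of even degree — interfaces

* `EvAt p G` : the conclusion of S4929 for the group `G` and the prime `p`; `Ev G` : for all odd `p ∣ |G|`;
* `NoFix U χ` : `χ` has no `U`-fixed vectors;
* `Good p r G` : the principal `p`-block contains a character without fixed vectors of the Sylow
  `r`-subgroups;
* `Par r G` : every character of `G` without fixed vectors of the Sylow `r`-subgroups has even degree;
* `Inv2 r G` : some 2-subgroup normalises a Sylow `r`-subgroup `U` and has trivial centraliser in `U`.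
-/

set_option autoImplicit false

open scoped ComplexConjugate
open Cfsg Cfsg.Agent.Characters.Core

namespace Cfsg.Agent.H892.EP

universe u v

/-- The principal `p`-block contains a character of even degree. -/
def EvAt (p : ℕ) (G : Type u) [Group G] : Prop :=
  ∀ M : Ideal AlgInt, IsPModular p M →
    ∃ χ : IrrCharacter G, χ ∈ principalBlock M G ∧ 2 ∣ charDegree (χ : G → ℂ)

/-- The conclusion of S4929 for all odd primes. -/
def Ev (G : Type u) [Group G] : Prop :=
  ∀ p : ℕ, p.Prime → p ≠ 2 → p ∣ Nat.card G → EvAt p G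

/-- `χ` has no `U`-fixed vectors. -/
def NoFix {G : Type u} [Group G] (U : Subgroup G) (χ : G → ℂ) : Prop :=
  ∑ᶠ u : U, χ u = 0

/-- The principal `p`-block contains a character without fixed vectors of the Sylow `r`-subgroups. -/
def Good (p r : ℕ) (G : Type u) [Group G] : Prop :=
  ∀ M : Ideal AlgInt, IsPModular p M →
    ∃ χ : IrrCharacter G, χ ∈ principalBlock M G ∧ ∀ U : Sylow r G, NoFix (U : Subgroup G) (χ : G → ℂ)

/-- Characters without fixed vectors of the Sylow `r`-subgroups have even degree. -/
def Par (r : ℕ) (G : Type u) [Group G] : Prop :=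
  ∀ χ : IrrCharacter G, (∀ U : Sylow r G, NoFix (U : Subgroup G) (χ : G → ℂ)) →
    2 ∣ charDegree (χ : G → ℂ)

/-- A 2-subgroup normalises a Sylow `r`-subgroup `U` and has trivial centraliser in it. -/
def Inv2 (r : ℕ) (G : Type u) [Group G] : Prop :=
  ∃ (U : Sylow r G) (A : Subgroup G), IsPGroup 2 A ∧
    A ≤ Subgroup.normalizer ((U : Subgroup G) : Set G) ∧
    ∀ u ∈ (U : Subgroup G), (∀ a ∈ A, a * u = u * a) → u = 1

theorem evAt_of_good {p r : ℕ} {G : Type u} [Group G] (h : Par r G) (hg : Good p r G) : EvAt p G := by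
  intro M hM
  obtain ⟨χ, hχ, h1⟩ := hg M hM
  exact ⟨χ, hχ, h χ h1⟩

end Cfsg.Agent.H892.EP
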