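import Mathlib
import Cfsg.Prelude.Def_Blocks
import Cfsg.Agent.Characters.Core
import Cfsg.Agent.Blocks.Local
import Cfsg.Agent.Blocks.Basic
import Cfsg.Agent.Blocks.PPart
import Cfsg.Agent.Blocks.RegularCount
import Cfsg.Agent.Blocks.PrincipalSection
import Cfsg.Agent.Blocks.PrincipalConst
import Cfsg.Agent.Blocks.Orthogonality
import Cfsg.Agent.S0913

/-!
# Sections and the principal block

* `mem_of_section_sum`: a character whose sum over a `p`-section does not vanish is in the principal
  block;
* `regSum_ne_zero`: the sum of a character of the principal block over the `p`-regular elements does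
  not vanish;
* `exists_over`: over a character of the principal block of any subgroup `H` there is a character of the
  principal block of `G`;
* `exists_ne_one_of_vanish`: a class function which vanishes on a `p`-section and has a component
  along the principal character has a component along another character of the principal block.
-/

set_option autoImplicit false

open scoped ComplexConjugate
open Cfsg Cfsg.Agent.Characters.Core

namespace Cfsg.Agent.H892.EP

universe u

variable {G : Type u} [Group G] [Finite G] {p : ℕ} [Fact p.Prime] {M : Ideal AlgInt}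

/-- The trivial character. -/
abbrev oneChar (G : Type u) [Group G] : IrrCharacter G :=
  ⟨fun _ => 1, Cfsg.Agent.Blocks.Basic.isIrrCharacter_one⟩

theorem coeff_ring (hM : IsPModular p M) (g : G) :
    MemLocalRing M (blockCoeff (principalBlock M G) g) :=
  Cfsg.Agent.S0913.result p M hM _ Blocks.PrincipalSection.isPBlock_principalBlock g

omit [Finite G] [Fact p.Prime] in
theorem one_mem_block (hM : IsPModular p M) : oneChar G ∈ principalBlock M G := by
  have := Cfsg.Agent.Blocks.Local.isPrime_of_isPModular hM
  exact Blocks.PrincipalSection.one_mem_principalBlock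

/-- **(T0)** A character with non-zero sum over some `p`-section is in the principal block. -/
theorem mem_of_section_sum (hM : IsPModular p M) (χ : IrrCharacter G) (u : G)
    (h : ∑ᶠ x ∈ {x : G | ∃ z, IsPPart p x z ∧ IsConj u z}, (χ : G → ℂ) x ≠ 0) :
    χ ∈ principalBlock M G := by
  by_contra hχ
  have h1 := Blocks.Orthogonality.orthogonal_on_section hM (principalBlock M G) (coeff_ring hM)
    (oneChar G) χ (one_mem_block hM) hχ u
  apply h
  have h2 := congrArg conj h1
  rw [map_zero] at h2
  rw [← h2, finsum_mem_eq_finite_toFinset_sum _ (Set.toFinite _),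
    finsum_mem_eq_finite_toFinset_sum _ (Set.toFinite _), map_sum]
  refine Finset.sum_congr rfl fun x _ => ?_
  simp

/-- **(T0)** for `p`-regular elements. -/
theorem mem_of_regSum (hM : IsPModular p M) (χ : IrrCharacter G)
    (h : ∑ᶠ x ∈ {x : G | ¬ p ∣ orderOf x}, (χ : G → ℂ) x ≠ 0) :
    χ ∈ principalBlock M G := by
  by_contra hχ
  have h1 := Blocks.Orthogonality.orthogonal_on_p_regular hM (principalBlock M G) (coeff_ring hM)
    (oneChar G) χ (one_mem_block hM) hχ
  apply h
  have h2 := congrArg conj h1
  rw [map_zero] at h2
  rw [← h2, finsum_mem_eq_finite_toFinset_sum _ (Set.toFinite _),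
    finsum_mem_eq_finite_toFinset_sum _ (Set.toFinite _), map_sum]
  refine Finset.sum_congr rfl fun x _ => ?_
  simp

open scoped Classical in
/-- The sum of a character of the principal block over the `p`-regular elements does not vanish. -/
theorem regSum_ne_zero (hM : IsPModular p M) (χ : IrrCharacter G) (hχ : χ ∈ principalBlock M G) :
    ∑ᶠ x ∈ {x : G | ¬ p ∣ orderOf x}, (χ : G → ℂ) x ≠ 0 := by
  have := Fintype.ofFinite G
  have hMp : M.IsPrime := Cfsg.Agent.Blocks.Local.isPrime_of_isPModular hM
  intro h0
  rw [finsum_mem_eq_finite_toFinset_sum _ (Set.toFinite _)] at h0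
  set F : G → ℂ := fun g => if p ∣ orderOf g then 0 else 1 - (χ : G → ℂ) g / (χ : G → ℂ) 1 with hF
  have hcl : IsClassFunction G F := by
    intro g h
    have h1 : orderOf (h * g * h⁻¹) = orderOf g := (MulAut.conj h).orderOf_eq g
    simp only [hF, h1, isIrr_isClassFunction χ.2 g h]
  have h1 : MemLocalIdeal M (∑ g, F g) := by
    refine Cfsg.Agent.Blocks.PrincipalConst.memLocalIdeal_sum_classFunction hcl fun g => ?_
    by_cases hg : p ∣ orderOf g
    · simp only [hF, hg, if_true, mul_zero]
      exact Cfsg.Agent.Blocks.Local.memLocalIdeal_zero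
    · simp only [hF, hg, if_false]
      have h2 := hχ g
      unfold centralChar at h2
      rw [show ((Subgroup.centralizer ({g} : Set G)).index : ℂ) * (1 - (χ : G → ℂ) g / (χ : G → ℂ) 1) =
        ((Subgroup.centralizer ({g} : Set G)).index : ℂ) * 1 / 1 -
          ((Subgroup.centralizer ({g} : Set G)).index : ℂ) * (χ : G → ℂ) g / (χ : G → ℂ) 1 by ring]
      exact h2
  have h2 : ∑ g, F g = (Nat.card {x : G // ¬ p ∣ orderOf x} : ℕ) := by
    have h3 : ∑ g, F g = ∑ g ∈ Finset.univ.filter (fun g : G => ¬ p ∣ orderOf g),
        (1 - (χ : G → ℂ) g / (χ : G → ℂ) 1) := by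
      rw [Finset.sum_filter]
      refine Finset.sum_congr rfl fun g _ => ?_
      simp only [hF]
      split_ifs <;> rfl
    rw [h3, Finset.sum_sub_distrib, ← Finset.sum_div]
    have h4 : ∑ g ∈ Finset.univ.filter (fun g : G => ¬ p ∣ orderOf g), (χ : G → ℂ) g = 0 := by
      rw [← h0]
      refine Finset.sum_congr ?_ fun _ _ => rfl
      ext x
      simp
    rw [h4, zero_div, sub_zero, Finset.sum_const, nsmul_eq_mul, mul_one,
      Nat.card_eq_fintype_card, Fintype.card_subtype]
  rw [h2, Cfsg.Agent.Blocks.Local.memLocalIdeal_natCast_iff hM] at h1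
  exact Cfsg.Agent.Blocks.RegularCount.not_dvd_card_regular h1

open scoped Classical in
/-- The indicator function of the `p`-regular elements. -/
noncomputable def regInd (p : ℕ) (G : Type u) [Group G] : G → ℂ :=
  fun g => if p ∣ orderOf g then 0 else 1

open scoped Classical in
omit [Finite G] [Fact p.Prime] in
theorem isClassFunction_regInd : IsClassFunction G (regInd p G) := by
  intro g h
  have h1 : orderOf (h * g * h⁻¹) = orderOf g := (MulAut.conj h).orderOf_eq g
  simp only [regInd, h1]

open scoped Classical in
omit [Fact p.Prime] in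
theorem classInner_regInd [Fintype G] (χ : G → ℂ) :
    classInner (regInd p G) χ =
      (Nat.card G : ℂ)⁻¹ * conj (∑ᶠ x ∈ {x : G | ¬ p ∣ orderOf x}, χ x) := by
  rw [classInner_def, finsum_mem_eq_finite_toFinset_sum _ (Set.toFinite _), map_sum]
  congr 1
  have h1 : ∀ g : G, regInd p G g * conj (χ g) = if ¬ p ∣ orderOf g then conj (χ g) else 0 := by
    intro g
    simp only [regInd]
    split_ifs <;> simp_all
  rw [Finset.sum_congr rfl fun g _ => h1 g, ← Finset.sum_filter]
  refine Finset.sum_congr ?_ fun _ _ => rfl
  ext x
  simp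

open scoped Classical in
/-- **(T1)** Over a character of the principal block of a subgroup there is a character of the
principal block. -/
theorem exists_over (hM : IsPModular p M) (H : Subgroup G) [Fintype H] (θ : IrrCharacter H)
    (hθ : θ ∈ principalBlock M H) :
    ∃ χ ∈ principalBlock M G, classInner (fun h : H => (χ : G → ℂ) h) (θ : H → ℂ) ≠ 0 := by
  have := Fintype.ofFinite G
  have : Finite (IrrCharacter G) := finite_irr
  have := Fintype.ofFinite (IrrCharacter G)
  by_contra hcon
  push Not at hcon
  have h1 : classInner (regInd p H) (θ : H → ℂ) ≠ 0 := by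
    rw [classInner_regInd]
    refine mul_ne_zero (inv_ne_zero card_ne_zero_complex) ?_
    rw [Ne, map_eq_zero]
    exact regSum_ne_zero hM θ hθ
  apply h1
  have h2 : regInd p H = fun h : H => ∑ χ : IrrCharacter G,
      classInner (regInd p G) (χ : G → ℂ) * (χ : G → ℂ) h := by
    funext h
    have h3 := congrFun (classFunction_eq_sum (isClassFunction_regInd (p := p) (G := G))) (h : G)
    rw [Finset.sum_apply] at h3
    simp only [Pi.smul_apply, smul_eq_mul] at h3
    rw [← h3]
    simp only [regInd, Subgroup.orderOf_coe]
  have h4 : (fun h : H => ∑ χ : IrrCharacter G,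
      classInner (regInd p G) (χ : G → ℂ) * (χ : G → ℂ) h) =
      ∑ χ : IrrCharacter G, (classInner (regInd p G) (χ : G → ℂ)) • (fun h : H => (χ : G → ℂ) h) := by
    funext h
    simp [Finset.sum_apply]
  rw [h2, h4, classInner_sum_left]
  refine Finset.sum_eq_zero fun χ _ => ?_
  rw [classInner_smul_left]
  by_cases hχ : χ ∈ principalBlock M G
  · rw [hcon χ hχ, mul_zero]
  · rw [classInner_regInd]
    have h5 : ∑ᶠ x ∈ {x : G | ¬ p ∣ orderOf x}, (χ : G → ℂ) x = 0 := by
      by_contra h6
      exact hχ (mem_of_regSum hM χ h6)
    rw [h5, map_zero, mul_zero, zero_mul]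

open scoped Classical in
/-- **(T2)** A class function which vanishes on a `p`-section and has a component along the principal
character has a component along another character of the principal block. -/
theorem exists_ne_one_of_vanish (hM : IsPModular p M) [Fintype G] (F : G → ℂ) (x : G)
    (hx : ∃ k : ℕ, orderOf x = p ^ k)
    (hF : ∀ u z : G, IsPPart p u z → IsConj x z → F u = 0)
    (h1 : classInner F (oneChar G : G → ℂ) ≠ 0) :
    ∃ χ ∈ principalBlock M G, χ ≠ oneChar G ∧ classInner F (χ : G → ℂ) ≠ 0 := by
  by_contra hcon
  push Not at hcon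
  have : Finite (IrrCharacter G) := finite_irr
  have := Fintype.ofFinite (IrrCharacter G)
  have h2 := Blocks.Orthogonality.blockPart_eq_zero hM (principalBlock M G) (coeff_ring hM) F x hF
    x x ⟨1, mul_one x, Commute.one_right x, hx, by simpa using (Fact.out : p.Prime).one_lt.ne'⟩
    (IsConj.refl x)
  have h3 : blockPart (principalBlock M G) F x =
      ∑ᶠ χ ∈ principalBlock M G, classInner F (χ : G → ℂ) * (χ : G → ℂ) x := by
    unfold blockPart
    refine finsum_congr fun χ => ?_
    refine finsum_congr fun _ => ?_
    congr!
  rw [h3, Blocks.Orthogonality.finsum_mem_eq_sum_filter, Finset.sum_eq_single (oneChar G)] at h2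
  · simp only [mul_one] at h2
    exact h1 h2
  · intro χ hχ hne
    rw [hcon χ (Finset.mem_filter.1 hχ).2 hne, zero_mul]
  · intro hn
    exact absurd (Finset.mem_filter.2 ⟨Finset.mem_univ _, one_mem_block hM⟩) hn

end Cfsg.Agent.H892.EP
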