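import Cfsg.Agent.H892.EP.Good
import Cfsg.Agent.H139.Cusp.Bridge
import Cfsg.Agent.H700.PRatExt
import Mathlib.FieldTheory.Finite.Extension

/-!
# S4929: cuspidal characters of `SL_d(q)` in the principal `p`-block, `d = ord_p(q)`

* `irreducible_charpoly` : the characteristic polynomial of an endomorphism without proper invariant subspaces;
* `good_gl`, `good_sl` : `Good p r` for `GL_d(F)` and `SL_d(F)`, `p ∣ q ^ d - 1`, `p ∤ q ^ i - 1` for `0 < i < d`, `2 ≤ d`.
-/

set_option autoImplicit false
set_option linter.unusedSectionVars false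

open scoped ComplexConjugate
open Cfsg Cfsg.Agent.Characters.Core Polynomial

namespace Cfsg.Agent.H892.EP

universe u v

/-! ### Characteristic polynomials -/

section charpoly

variable {F : Type*} [Field F] {V : Type*} [AddCommGroup V] [Module F V] [Finite V]

theorem aeval_comm (g : V →ₗ[F] V) (f : F[X]) (v : V) : aeval g f (g v) = g (aeval g f v) := by
  have h : aeval g f * g = g * aeval g f := by
    have h1 : aeval g (f * X) = aeval g (X * f) := by rw [mul_comm]
    rwa [map_mul, map_mul, aeval_X] at h1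
  exact LinearMap.congr_fun h v

/-- The characteristic polynomial of an endomorphism without proper invariant subspaces is irreducible. -/
theorem irreducible_charpoly (g : V →ₗ[F] V) (hV : 0 < Module.finrank F V)
    (h : ∀ W : Submodule F V, W ≤ W.comap g → W ≠ ⊥ → W = ⊤) : Irreducible g.charpoly := by
  classical
  have hdeg : g.charpoly.natDegree = Module.finrank F V := LinearMap.charpoly_natDegree g
  have hnu : ¬ IsUnit g.charpoly := fun hu => by
    have := natDegree_eq_zero_of_isUnit hu
    omega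
  obtain ⟨f, hfm, hf, hfd⟩ : ∃ f : F[X], f.Monic ∧ Irreducible f ∧ f ∣ g.charpoly := by
    obtain ⟨f, hf, hfd⟩ := WfDvdMonoid.exists_irreducible_factor hnu (LinearMap.charpoly_monic g).ne_zero
    refine ⟨normalize f, monic_normalize hf.ne_zero, (associated_normalize f).irreducible hf, ?_⟩
    exact (normalize_dvd_iff).2 hfd
  have hker : LinearMap.ker (aeval g f) = ⊤ := by
    refine h _ (fun v hv => ?_) (Cfsg.Agent.H139.Cusp.ker_aeval_ne_bot hf hfd)
    rw [LinearMap.mem_ker] at hv
    show aeval g f (g v) = 0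
    rw [aeval_comm, hv, map_zero]
  have hzero : ∀ v : V, aeval g f v = 0 := fun v => by
    have : v ∈ LinearMap.ker (aeval g f) := by rw [hker]; trivial
    exact this
  -- a cyclic vector
  have : Nontrivial V := Module.nontrivial_of_finrank_pos hV
  obtain ⟨v, hv⟩ := exists_ne (0 : V)
  let ℓ : F[X] →ₗ[F] V := (LinearMap.applyₗ v).comp (aeval g : F[X] →ₐ[F] (V →ₗ[F] V)).toLinearMap
  have hℓ : ∀ p : F[X], ℓ p = aeval g p v := fun p => rfl
  let W : Submodule F V := (degreeLT F f.natDegree).map ℓ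
  have hW : ∀ p : F[X], aeval g p v ∈ W := by
    intro p
    refine ⟨p %ₘ f, ?_, ?_⟩
    · rw [SetLike.mem_coe, mem_degreeLT]
      have h1 := degree_modByMonic_lt p hfm
      rwa [degree_eq_natDegree hfm.ne_zero] at h1
    · rw [hℓ]
      have h1 : aeval g p = aeval g (p %ₘ f) + aeval g f * aeval g (p /ₘ f) := by
        rw [← map_mul, ← map_add, modByMonic_add_div p f]
      rw [h1, LinearMap.add_apply, Module.End.mul_apply, hzero, add_zero]
  have hWtop : W = ⊤ := by
    refine h W ?_ ?_
    · rintro _ ⟨p, -, rfl⟩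
      show g (ℓ p) ∈ W
      have h1 : g (ℓ p) = aeval g (X * p) v := by
        rw [hℓ, map_mul, aeval_X]; rfl
      rw [h1]
      exact hW _
    · intro h0
      have h1 := hW 1
      rw [h0, map_one, Submodule.mem_bot] at h1
      exact hv h1
  have hle : Module.finrank F V ≤ f.natDegree := by
    have h1 : Module.finrank F W ≤ Module.finrank F (degreeLT F f.natDegree) := by
      have : FiniteDimensional F (degreeLT F f.natDegree) :=
        Module.Finite.equiv (degreeLTEquiv F f.natDegree).symm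
      exact Submodule.finrank_map_le ℓ _
    rw [hWtop, finrank_top, (degreeLTEquiv F f.natDegree).finrank_eq, Module.finrank_fin_fun] at h1
    exact h1
  have hge : f.natDegree ≤ g.charpoly.natDegree := natDegree_le_of_dvd hfd (LinearMap.charpoly_monic g).ne_zero
  have heq : f = g.charpoly := by
    obtain ⟨c, hc⟩ := hfd
    have hcm : c.Monic := by
      have := LinearMap.charpoly_monic g
      rw [hc] at this
      exact hfm.of_mul_monic_left this
    have h1 : g.charpoly.natDegree = f.natDegree + c.natDegree := by rw [hc, hfm.natDegree_mul hcm]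
    have h2 : c.natDegree = 0 := by omega
    rw [hc, hcm.natDegree_eq_zero.1 h2, mul_one]
  rw [← heq]
  exact hf

end charpoly

/-! ### Elements of order `p` -/

section elt

variable {F : Type u} [Field F] [Finite F] {p : ℕ} [Fact p.Prime] {d : ℕ}

theorem not_dvd_card_gl {r : ℕ} [Fact r.Prime] [CharP F r] (hpr : p ≠ r)
    (h2 : ∀ i, 0 < i → i < d → ¬ p ∣ Nat.card F ^ i - 1) {i : ℕ} (hi : i < d) :
    ¬ p ∣ Nat.card (GL (Fin i) F) := by
  have := Fintype.ofFinite F
  have hp : p.Prime := Fact.out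
  rw [Matrix.card_GL_field, hp.prime.dvd_finsetProd_iff]
  rintro ⟨j, -, hj⟩
  have hj' : (j : ℕ) < i := j.2
  have e : Fintype.card F ^ i - Fintype.card F ^ (j : ℕ) =
      Fintype.card F ^ (j : ℕ) * (Fintype.card F ^ (i - j) - 1) := by
    rw [Nat.mul_sub, mul_one, ← pow_add, Nat.add_sub_cancel' hj'.le]
  rw [e] at hj
  rcases hp.dvd_mul.1 hj with h | h
  · have h3 := hp.dvd_of_dvd_pow h
    obtain ⟨n, -, hn⟩ := FiniteField.card F r
    rw [hn] at h3
    exact hpr ((Nat.prime_dvd_prime_iff_eq hp (Fact.out : r.Prime)).1 (hp.dvd_of_dvd_pow h3))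
  · rw [← Nat.card_eq_fintype_card] at h
    exact h2 (i - j) (by omega) (by omega) h

theorem eq_one_of_small {r : ℕ} [Fact r.Prime] [CharP F r] (hpr : p ≠ r)
    (h2 : ∀ i, 0 < i → i < d → ¬ p ∣ Nat.card F ^ i - 1) {W : Type*} [AddCommGroup W] [Module F W]
    [FiniteDimensional F W] (hW : Module.finrank F W < d) (T : Module.End F W) (hT : T ^ p = 1) : T = 1 := by
  have hp : p.Prime := Fact.out
  let u : (Module.End F W)ˣ := Units.ofPowEqOne T p hT hp.ne_zero
  have hu : u ^ p = 1 := Units.ext (by rw [Units.val_pow_eq_pow_val]; exact hT)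
  let e : (Module.End F W)ˣ ≃* GL (Fin (Module.finrank F W)) F :=
    Units.mapEquiv (LinearMap.toMatrixAlgEquiv (Module.finBasis F W)).toMulEquiv
  have h3 : orderOf (e u) ∣ p := orderOf_dvd_of_pow_eq_one (by rw [← map_pow, hu, map_one])
  have h4 : orderOf (e u) ∣ Nat.card (GL (Fin (Module.finrank F W)) F) := orderOf_dvd_natCard _
  have h5 : orderOf (e u) = 1 := by
    rcases (Nat.dvd_prime hp).1 h3 with h | h
    · exact h
    · rw [h] at h4
      exact absurd h4 (not_dvd_card_gl hpr h2 hW)
  have h6 : u = 1 := by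
    rw [orderOf_eq_one_iff] at h5
    exact e.injective (by rw [h5, map_one])
  have h7 := congrArg Units.val h6
  exact h7

theorem pow_char_eq_one {r : ℕ} [Fact r.Prime] [CharP F r] {V : Type*} [AddCommGroup V] [Module F V]
    (T : Module.End F V) (hN : (T - 1) ^ 2 = 0) : T ^ r = 1 := by
  by_cases hT1 : T = 1
  · rw [hT1, one_pow]
  have hchar : CharP (Module.End F V) r := by
    have : Nontrivial (Module.End F V) := ⟨T, 1, hT1⟩
    exact charP_of_injective_algebraMap (algebraMap F (Module.End F V)).injective r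
  have h3 : (T - 1) ^ r = T ^ r - 1 ^ r := sub_pow_char_of_commute _ (Commute.one_right T)
  have h4 : (T - 1) ^ r = 0 := by
    obtain ⟨k, hk⟩ := Nat.exists_eq_add_of_le (Fact.out : r.Prime).two_le
    rw [hk, pow_add, hN, zero_mul]
  rw [h4, one_pow] at h3
  exact (sub_eq_zero.1 h3.symm)

/-- An element of order `p` has no proper invariant subspaces. -/
theorem invariant_eq_top {r : ℕ} [Fact r.Prime] [CharP F r] (hpr : p ≠ r)
    (h2 : ∀ i, 0 < i → i < d → ¬ p ∣ Nat.card F ^ i - 1) {V : Type*} [AddCommGroup V] [Module F V]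
    [FiniteDimensional F V] (hV : Module.finrank F V = d) {T : Module.End F V} (hT : T ^ p = 1) (hT1 : T ≠ 1)
    (W : Submodule F V) (hW : W ≤ W.comap T) (h0 : W ≠ ⊥) : W = ⊤ := by
  have hp : p.Prime := Fact.out
  by_contra h1
  have hWlt : Module.finrank F W < d := hV ▸ Submodule.finrank_lt h1
  have hQlt : Module.finrank F (V ⧸ W) < d := by
    have h3 := W.finrank_quotient_add_finrank
    have h4 : 0 < Module.finrank F W := Nat.pos_of_ne_zero fun h => h0 (Submodule.finrank_eq_zero.1 h)
    omega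
  have hres : T.restrict hW = 1 := by
    refine eq_one_of_small hpr h2 hWlt _ ?_
    have h3 : ∀ (n : ℕ) (w : W), (((T.restrict hW) ^ n) w : V) = (T ^ n) (w : V) := by
      intro n
      induction n with
      | zero => intro w; rfl
      | succ n ih =>
        intro w
        rw [pow_succ', pow_succ', Module.End.mul_apply, Module.End.mul_apply, ← ih]
        rfl
    ext w
    rw [h3, hT]
    rfl
  have hquo : W.mapQ W T hW = 1 := by
    refine eq_one_of_small hpr h2 hQlt _ ?_
    have h3 : ∀ (n : ℕ) (v : V), ((W.mapQ W T hW) ^ n) (Submodule.Quotient.mk v) =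
        (Submodule.Quotient.mk ((T ^ n) v) : V ⧸ W) := by
      intro n
      induction n with
      | zero => intro w; rfl
      | succ n ih =>
        intro w
        rw [pow_succ', pow_succ', Module.End.mul_apply, Module.End.mul_apply, ih]
        rfl
    ext v
    show ((W.mapQ W T hW) ^ p) (Submodule.Quotient.mk v) = _
    rw [h3, hT]
    rfl
  -- `(T - 1) ^ 2 = 0`
  have hN : (T - 1) ^ 2 = 0 := by
    ext v
    have h3 : (T - 1) v ∈ W := by
      have h4 := LinearMap.congr_fun hquo (Submodule.Quotient.mk v)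
      have h5 : (Submodule.Quotient.mk (T v) : V ⧸ W) = Submodule.Quotient.mk v := h4
      exact (Submodule.Quotient.eq W).1 h5
    have h4 := congrArg Subtype.val (LinearMap.congr_fun hres ⟨_, h3⟩)
    have h5 : T ((T - 1) v) = (T - 1) v := h4
    rw [pow_two, Module.End.mul_apply, LinearMap.sub_apply, h5]
    simp
  have hr : T ^ r = 1 := pow_char_eq_one T hN
  have hcop : Nat.Coprime p r := (Nat.coprime_primes hp (Fact.out : r.Prime)).2 hpr
  have h5 : orderOf T ∣ Nat.gcd p r := Nat.dvd_gcd (orderOf_dvd_of_pow_eq_one hT) (orderOf_dvd_of_pow_eq_one hr)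
  rw [hcop.gcd_eq_one, Nat.dvd_one, orderOf_eq_one_iff] at h5
  exact hT1 h5

/-- The characteristic polynomial of an element whose powers contain an element of order `p`. -/
theorem irreducible_of_pow {r : ℕ} [Fact r.Prime] [CharP F r] (hpr : p ≠ r) (hd : 0 < d)
    (h2 : ∀ i, 0 < i → i < d → ¬ p ∣ Nat.card F ^ i - 1) {z g : GL (Fin d) F} (hz : z ^ p = 1) (hz1 : z ≠ 1)
    {k : ℕ} (hk : g ^ k = z) :
    Irreducible (Matrix.toLin' (g : Matrix (Fin d) (Fin d) F)).charpoly := by
  refine irreducible_charpoly _ (by rw [Module.finrank_fin_fun]; exact hd) fun W hW h0 => ?_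
  refine invariant_eq_top (T := Matrix.toLin' (z : Matrix (Fin d) (Fin d) F)) hpr h2
    (by rw [Module.finrank_fin_fun]) ?_ ?_ W ?_ h0
  · rw [← Matrix.toLin'_pow, ← Units.val_pow_eq_pow_val, hz, Units.val_one, Matrix.toLin'_one]
    rfl
  · intro h
    apply hz1
    apply Units.ext
    apply Matrix.toLin'.injective
    rw [h, Units.val_one, Matrix.toLin'_one]
    rfl
  · rw [← hk, Units.val_pow_eq_pow_val, Matrix.toLin'_pow]
    clear hk
    induction k with
    | zero => exact fun v hv => hv
    | succ n ih =>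
      intro v hv
      rw [pow_succ']
      exact hW (ih hv)

end elt

/-! ### The cuspidal character -/

section psi

open Cfsg.Agent.H139.Cusp Cfsg.Agent.Blocks.Local

variable {F : Type u} [Field F] [Finite F] {L : Type v} [Field L] [Finite L] [Algebra F L]

theorem memLocalIdeal_multiset {p : ℕ} [Fact p.Prime] {M : Ideal AlgInt} (hM : IsPModular p M) (s : Multiset ℂ)
    (h : ∀ z ∈ s, MemLocalIdeal M (z - 1)) : MemLocalIdeal M (s.sum - (Multiset.card s : ℂ)) := by
  have := hM.2.1.isPrime
  induction s using Multiset.induction_on with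
  | empty => simpa using memLocalIdeal_zero
  | cons a s ih =>
    rw [Multiset.sum_cons, Multiset.card_cons]
    have h1 := memLocalIdeal_add (h a (Multiset.mem_cons_self _ _)) (ih fun z hz => h z (Multiset.mem_cons_of_mem hz))
    convert h1 using 1
    push_cast
    ring

/-- The value at an element with irreducible characteristic polynomial. -/
theorem psi_congr {p : ℕ} [Fact p.Prime] {M : Ideal AlgInt} (hM : IsPModular p M) {d : ℕ} (hd : 2 ≤ d)
    (hL : Module.finrank F L = d) {θ : L →*₀ ℂ} (hθ : ∀ x : L, x ≠ 0 → θ x ^ p = 1) {g : GL (Fin d) F}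
    (hg : Irreducible (Matrix.toLin' (g : Matrix (Fin d) (Fin d) F)).charpoly) :
    MemLocalIdeal M (psi (n := d) (F := F) L θ g - (-1) ^ (d - 1) * (d : ℂ)) := by
  have := isPrime_of_isPModular hM
  have h1 : psi (n := d) (F := F) L θ g =
      (-1) ^ (d - 1) * lb L θ (Matrix.toLin' (g : Matrix (Fin d) (Fin d) F)).charpoly := by
    rw [psi, cuspMat, cusp_of_irreducible L θ hg, Module.finrank_fin_fun]
  set f := (Matrix.toLin' (g : Matrix (Fin d) (Fin d) F)).charpoly with hf
  have hfd : f.natDegree = d := by rw [hf, LinearMap.charpoly_natDegree, Module.finrank_fin_fun]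
  have hsplit : (f.map (algebraMap F L)).Splits := splits_of_natDegree_dvd hg (by rw [hfd, hL])
  have hcard : Multiset.card (f.map (algebraMap F L)).roots = d := by
    rw [← hsplit.natDegree_eq_card_roots, natDegree_map, hfd]
  have hne : ∀ x ∈ (f.map (algebraMap F L)).roots, x ≠ 0 := by
    rintro x hx rfl
    have h3 := (mem_roots'.1 hx).2
    rw [IsRoot.def, eval_map_algebraMap, aeval_def, eval₂_at_zero, ← map_zero (algebraMap F L)] at h3
    have h4 : f.coeff 0 = 0 := (algebraMap F L).injective h3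
    have h5 : X ∣ f := X_dvd_iff.2 h4
    have h6 := (irreducible_X.associated_of_dvd hg h5)
    have h7 : (X : F[X]) = f := eq_of_monic_of_associated monic_X (LinearMap.charpoly_monic _) h6
    have h8 := congrArg natDegree h7
    rw [natDegree_X, hfd] at h8
    omega
  have h2 := memLocalIdeal_multiset hM ((f.map (algebraMap F L)).roots.map θ) (fun z hz => by
    obtain ⟨x, hx, rfl⟩ := Multiset.mem_map.1 hz
    exact Cfsg.Agent.Blocks.Twist.memLocalIdeal_sub_one_of_pow_eq_one hM (hθ x (hne x hx)))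
  rw [Multiset.card_map, hcard] at h2
  have h3 := memLocalIdeal_mul_left (memLocalRing_of_isIntegral (isIntegral_one.neg.pow (d - 1))) h2
  rw [h1]
  convert h3 using 1
  rw [lb]
  ring

theorem psi_mem {p r : ℕ} [Fact p.Prime] [Fact r.Prime] [CharP F r] (hpr : p ≠ r) {M : Ideal AlgInt}
    (hM : IsPModular p M) {d : ℕ} (hd : 2 ≤ d)
    (h1 : p ∣ Nat.card F ^ d - 1) (h2 : ∀ i, 0 < i → i < d → ¬ p ∣ Nat.card F ^ i - 1)
    (hL : Module.finrank F L = d) {θ : L →*₀ ℂ} (hθ : ∀ x : L, x ≠ 0 → θ x ^ p = 1)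
    (hirr : IsIrrCharacter (GL (Fin d) F) (psi L θ)) :
    (⟨_, hirr⟩ : IrrCharacter (GL (Fin d) F)) ∈ principalBlock M (GL (Fin d) F) := by
  have hp : p.Prime := Fact.out
  have hMp := isPrime_of_isPModular hM
  have := Fintype.ofFinite F
  -- an element of order `p`
  obtain ⟨z, hz⟩ : ∃ z : GL (Fin d) F, orderOf z = p := by
    refine exists_prime_orderOf_dvd_card' p ?_
    rw [Matrix.card_GL_field]
    refine dvd_trans ?_ (Finset.dvd_prod_of_mem _ (Finset.mem_univ (⟨0, by omega⟩ : Fin d)))
    rw [pow_zero, ← Nat.card_eq_fintype_card]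
    exact h1
  have hz1 : z ≠ 1 := fun h => hp.one_lt.ne' (by rw [← hz, h, orderOf_one])
  have hzp : z ^ p = 1 := by rw [← hz]; exact pow_orderOf_eq_one z
  have key : ∀ x : GL (Fin d) F, x * z = z * x → ¬ p ∣ orderOf x →
      MemLocalIdeal M (psi (n := d) (F := F) L θ x - (-1) ^ (d - 1) * (d : ℂ)) := by
    intro x hx hxp
    have hpart : IsPPart p (z * x) z := by
      refine ⟨x, rfl, hx.symm, ⟨1, by rw [hz, pow_one]⟩, ?_⟩
      exact hxp
    have h3 := Cfsg.Agent.CharactersDeep.ModCongr.memLocalIdeal_character_sub hM hirr (z * x) z hpart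
    rw [inv_mul_cancel_left] at h3
    -- `z` is a power of `z * x`
    obtain ⟨k, hk⟩ : ∃ k : ℕ, (z * x) ^ k = z := by
      have hcop : Nat.Coprime (orderOf x) p := (Nat.coprime_comm.1 ((Nat.Prime.coprime_iff_not_dvd hp).2 hxp))
      obtain ⟨j, hj⟩ := Nat.exists_mul_mod_eq_one_of_coprime hcop hp.one_lt
      refine ⟨orderOf x * j, ?_⟩
      have hc : Commute z x := hx.symm
      rw [hc.mul_pow, pow_mul x, pow_orderOf_eq_one, one_pow, mul_one, ← pow_mod_orderOf, hz, hj.2, pow_one]
    have h4 := psi_congr hM hd hL hθ (irreducible_of_pow hpr (by omega) h2 hzp hz1 hk)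
    have h5 := memLocalIdeal_sub h4 h3
    convert h5 using 1
    ring
  refine Cfsg.Agent.H700.PRatExt.mem_principalBlock_of_pregular hM (P := Subgroup.zpowers z) ?_ _ ?_ ?_
  · exact IsPGroup.of_card (n := 1) (by rw [Nat.card_zpowers, hz, pow_one])
  · show ¬ p ∣ charDegree (psi L θ)
    rw [Cfsg.Agent.Blocks.Basic.charDegree_of_eq (psi_one L θ (by omega)), degP,
      hp.prime.dvd_finsetProd_iff]
    rintro ⟨j, hj, hj2⟩
    rw [Finset.mem_range] at hj
    exact h2 (j + 1) (by omega) (by omega) hj2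
  · intro x hx hxp
    have hx1 : x * z = z * x := (Subgroup.mem_centralizer_iff.1 hx z (Subgroup.mem_zpowers z)).symm
    have h3 := key x hx1 hxp
    have h4 := key 1 (by rw [one_mul, mul_one]) (by rw [orderOf_one]; exact fun h => hp.one_lt.ne' (Nat.dvd_one.1 h))
    have h5 := memLocalIdeal_sub h3 h4
    show MemLocalIdeal M (psi L θ x - psi L θ 1)
    convert h5 using 1
    ring

/-- **No fixed vectors** of the Sylow `r`-subgroups. -/
theorem noFix_psi {r : ℕ} [Fact r.Prime] [CharP F r] {d : ℕ} (hd : 2 ≤ d) {θ : L →*₀ ℂ}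
    (hirr : IsIrrCharacter (GL (Fin d) F) (psi L θ)) (U : Sylow r (GL (Fin d) F)) :
    NoFix (U : Subgroup (GL (Fin d) F)) (psi (n := d) (F := F) L θ) := by
  classical
  by_contra hcon
  obtain ⟨m, σ, hσ, hσψ⟩ := id hirr
  rw [← hσψ, ← md_eq_zero_iff] at hcon
  obtain ⟨w, hw, hfix⟩ := (md_ne_zero_iff σ _).1 hcon
  let b : Module.Basis (Fin d) F (Fin d → F) := Pi.basisFun F (Fin d)
  let e := Cfsg.Agent.H53.HC.glE b
  -- a fixed line
  have hfinV : Finite (Fin d → F) := inferInstance
  let U' : Subgroup ((Fin d → F) ≃ₗ[F] (Fin d → F)) := (U : Subgroup (GL (Fin d) F)).comap e.toMonoidHom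
  have hU' : IsPGroup r U' := by
    refine (U.isPGroup').comap_of_injective e.toMonoidHom e.injective
  obtain ⟨v, hv, hvfix⟩ : ∃ v : Fin d → F, v ≠ 0 ∧ ∀ u ∈ U', u v = v := by
    have hcard : r ∣ Nat.card (Fin d → F) := by
      rw [Nat.card_fun, Nat.card_fin]
      refine dvd_pow ?_ (by omega)
      have := Fintype.ofFinite F
      obtain ⟨n, hn, hn2⟩ := FiniteField.card F r
      rw [Nat.card_eq_fintype_card, hn2]
      exact dvd_pow_self r n.ne_zero
    have hmod := hU'.card_modEq_card_fixedPoints (Fin d → F)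
    have h0 : (0 : Fin d → F) ∈ MulAction.fixedPoints U' (Fin d → F) := by
      intro u
      exact map_zero (u : (Fin d → F) ≃ₗ[F] (Fin d → F))
    obtain ⟨v, hv, hv0⟩ := hU'.exists_fixed_point_of_prime_dvd_card_of_fixed_point (Fin d → F) hcard h0
    exact ⟨v, hv0.symm, fun u hu => hv ⟨u, hu⟩⟩
  let D : Submodule F (Fin d → F) := Submodule.span F {v}
  have hD0 : D ≠ ⊥ := by
    rw [Ne, Submodule.span_singleton_eq_bot]; exact hv
  have hD1 : D ≠ ⊤ := by
    intro h
    have h1 := finrank_span_singleton (K := F) hv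
    change Module.finrank F D = 1 at h1
    rw [h, finrank_top, Module.finrank_fin_fun] at h1
    omega
  -- the unipotent radical is contained in `U'`
  have hfin : Finite ((Fin d → F) ≃ₗ[F] (Fin d → F)) := Finite.of_equiv _ e.symm.toEquiv
  let R : Subgroup (GL (Fin d) F) := (Cfsg.Agent.H53.HC.radU D).map e.toMonoidHom
  have hRp : IsPGroup r R := by
    refine IsPGroup.map ?_ _
    rintro ⟨u, hu⟩
    refine ⟨1, Subtype.ext ?_⟩
    rw [Subgroup.coe_pow, pow_one]
    show u ^ r = 1
    let f := LinearEquiv.automorphismGroup.toLinearMapMonoidHom (R := F) (M := Fin d → F)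
    have h3 : f u ^ r = 1 := by
      refine pow_char_eq_one _ (LinearMap.ext fun x => ?_)
      rw [pow_two, Module.End.mul_apply]
      have h4 : (f u - 1) x ∈ D := hu.1 x
      have h5 : f u ((f u - 1) x) = (f u - 1) x := hu.2 _ h4
      rw [LinearMap.sub_apply (f u), h5]
      simp
    rw [← map_pow] at h3
    ext1 x
    exact LinearMap.congr_fun h3 x
  have hRU : R ≤ U := by
    have hn : (U : Subgroup (GL (Fin d) F)) ≤ Subgroup.normalizer (R : Set (GL (Fin d) F)) := by
      have key : ∀ g ∈ (U : Subgroup (GL (Fin d) F)), ∀ x ∈ R, g * x * g⁻¹ ∈ R := by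
        rintro g hg _ ⟨u, hu, rfl⟩
        have hg' : e.symm g ∈ U' := by
          show e (e.symm g) ∈ (U : Subgroup (GL (Fin d) F))
          rw [e.apply_symm_apply]; exact hg
        have hDg : ∀ x ∈ D, e.symm g x = x := by
          intro x hx
          obtain ⟨c, rfl⟩ := Submodule.mem_span_singleton.1 hx
          rw [map_smul, hvfix _ hg']
        refine ⟨e.symm g * u * (e.symm g)⁻¹, ⟨fun x => ?_, fun x hx => ?_⟩, ?_⟩
        · set y := (e.symm g)⁻¹ x with hy
          have hx : x = e.symm g y := by rw [hy]; exact ((e.symm g).apply_symm_apply x).symm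
          have h3 : (e.symm g * u * (e.symm g)⁻¹) x = e.symm g (u y) := rfl
          have h4 : (e.symm g * u * (e.symm g)⁻¹) x - x = e.symm g (u y - y) := by
            rw [h3, map_sub, ← hx]
          rw [h4, hDg _ (hu.1 y)]
          exact hu.1 y
        · have h3 : (e.symm g)⁻¹ x = x := by
            have h4 := hDg x hx
            nth_rewrite 1 [← h4]
            exact (e.symm g).symm_apply_apply x
          show e.symm g (u ((e.symm g)⁻¹ x)) = x
          rw [h3, hu.2 x hx, hDg x hx]
        · show e (e.symm g * u * (e.symm g)⁻¹) = g * e u * g⁻¹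
          rw [map_mul, map_mul, map_inv, e.apply_symm_apply]
      intro g hg
      rw [Subgroup.mem_normalizer_iff]
      intro x
      refine ⟨key g hg x, fun h => ?_⟩
      have := key g⁻¹ (inv_mem hg) _ h
      have e1 : g⁻¹ * (g * x * g⁻¹) * g⁻¹⁻¹ = x := by group
      rwa [e1] at this
    have h3 := IsPGroup.to_sup_of_normal_left' hRp U.isPGroup' hn
    have h4 := U.is_maximal' h3 le_sup_right
    rw [← h4]
    exact le_sup_left
  have : Fintype (Cfsg.Agent.H53.HC.radU D) := Fintype.ofFinite _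
  have : Fintype R := Fintype.ofFinite _
  have h1 := psi_isCusp (n := d) (F := F) L θ D hD0 hD1
  refine (md_ne_zero_iff σ R).2 ⟨w, hw, fun q hq => hfix q (hRU hq)⟩ ?_
  rw [md_eq, hσψ]
  have h2 : ∑ x : R, psi (n := d) (F := F) L θ (x : GL (Fin d) F) =
      ∑ u : Cfsg.Agent.H53.HC.radU D, Cfsg.Agent.H53.HC.cl (psi (n := d) (F := F) L θ) (u : (Fin d → F) ≃ₗ[F] _) := by
    refine (Fintype.sum_equiv (Subgroup.equivMapOfInjective _ e.toMonoidHom e.injective).toEquiv _ _ fun u => ?_).symm
    rw [Cfsg.Agent.H53.HC.cl_eq (psi_isClass L θ) b]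
    rfl
  rw [h2, h1, mul_zero]

end psi

/-! ### The theorem -/

section main

open Cfsg.Agent.H139.Cusp

variable {F : Type u} [Field F] [Finite F] {p r : ℕ} [Fact p.Prime] [Fact r.Prime] [CharP F r]

theorem good_gl {d : ℕ} (hd : 2 ≤ d) (h1 : p ∣ Nat.card F ^ d - 1)
    (h2 : ∀ i, 0 < i → i < d → ¬ p ∣ Nat.card F ^ i - 1) : Good p r (GL (Fin d) F) := by
  have hp : p.Prime := Fact.out
  have hr : r.Prime := Fact.out
  have := Fintype.ofFinite F
  have hpr : p ≠ r := by
    rintro rfl
    obtain ⟨n, hn⟩ := FiniteField.card F p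
    have h3 : p ∣ Nat.card F ^ d := by
      rw [Nat.card_eq_fintype_card, hn.2, ← pow_mul]
      exact dvd_pow_self p (Nat.mul_ne_zero n.ne_zero (by omega))
    have h4 : 1 ≤ Nat.card F ^ d := Nat.one_le_pow _ _ Nat.card_pos
    have h5 := (Nat.dvd_sub h3 h1)
    rw [Nat.sub_sub_self h4] at h5
    exact hp.one_lt.ne' (Nat.dvd_one.1 h5)
  obtain ⟨L, _, _, _, hL⟩ : ∃ (L : Type) (_ : Field L) (_ : Algebra F L) (_ : Finite L),
      Module.finrank F L = d := by
    have : NeZero d := ⟨by omega⟩
    exact ⟨FiniteField.Extension F r d, inferInstance, inferInstance, inferInstance,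
      FiniteField.finrank_extension F r d⟩
  obtain ⟨θ, hθ⟩ := exists_theta L
  have hcardL : Nat.card Lˣ = Nat.card F ^ d - 1 := by
    rw [Nat.card_units, Module.natCard_eq_pow_finrank (K := F), hL]
  obtain ⟨a, ha⟩ := h1
  have hq : 2 ≤ Nat.card F := Finite.one_lt_card
  have hqd : 1 < Nat.card F ^ d := Nat.one_lt_pow (by omega) (by omega)
  have ha0 : a ≠ 0 := by
    rintro rfl
    rw [mul_zero] at ha
    omega
  have hreg : Regular F d (powTheta θ a ha0) := by
    rw [regular_powTheta_iff hθ ha0 hL]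
    intro i hi hid hdvd
    rw [ha, mul_comm p a] at hdvd
    exact h2 i hi hid (Nat.dvd_of_mul_dvd_mul_left (Nat.pos_of_ne_zero ha0) hdvd)
  have hirr := psi_isIrr (n := d) (powTheta θ a ha0) hL hreg
  have hpow : ∀ x : L, x ≠ 0 → powTheta θ a ha0 x ^ p = 1 := by
    intro x hx
    rw [powTheta_apply, ← map_pow, ← map_pow, ← pow_mul, mul_comm a p, ← ha, ← hcardL]
    have h3 : (Units.mk0 x hx) ^ Nat.card Lˣ = 1 := pow_card_eq_one'
    have h4 : x ^ Nat.card Lˣ = 1 := congrArg Units.val h3
    rw [h4, map_one]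
  intro M hM
  exact ⟨⟨_, hirr⟩, psi_mem hpr hM hd ⟨a, ha⟩ h2 hL hpow hirr, fun U => noFix_psi hd hirr U⟩

/-- **[GOODSL]** -/
theorem good_sl {d : ℕ} (hd : 2 ≤ d) (h1 : p ∣ Nat.card F ^ d - 1)
    (h2 : ∀ i, 0 < i → i < d → ¬ p ∣ Nat.card F ^ i - 1) : Good p r (Matrix.SpecialLinearGroup (Fin d) F) := by
  have h := good_gl (r := r) hd h1 h2
  have := Fintype.ofFinite F
  let f : Matrix.SpecialLinearGroup (Fin d) F →* GL (Fin d) F := Matrix.SpecialLinearGroup.toGL
  have hf : Function.Injective f := Matrix.SpecialLinearGroup.toGL_injective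
  have hrange : f.range = (Matrix.GeneralLinearGroup.det : GL (Fin d) F →* Fˣ).ker := by
    ext g
    rw [MonoidHom.mem_ker]
    constructor
    · rintro ⟨x, rfl⟩
      exact Units.ext x.2
    · intro hg
      refine ⟨⟨(g : Matrix (Fin d) (Fin d) F), congrArg Units.val hg⟩, ?_⟩
      exact Units.ext rfl
  have hn : f.range.Normal := by rw [hrange]; infer_instance
  have hidx : ¬ r ∣ f.range.index := by
    rw [hrange, Subgroup.index_ker]
    intro h3
    have h4 := h3.trans (Subgroup.card_subgroup_dvd_card _)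
    rw [Nat.card_units] at h4
    obtain ⟨n, hn⟩ := FiniteField.card F r
    have h5 : r ∣ Nat.card F := by
      rw [Nat.card_eq_fintype_card, hn.2]
      exact dvd_pow_self r n.ne_zero
    have h6 := Nat.dvd_sub h5 h4
    have h7 : 1 ≤ Nat.card F := Nat.card_pos
    rw [Nat.sub_sub_self h7] at h6
    exact (Fact.out : r.Prime).one_lt.ne' (Nat.dvd_one.1 h6)
  exact (h.down hn hidx).congr (MonoidHom.ofInjective hf).symm

end main

end Cfsg.Agent.H892.EP
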