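import Cfsg.Agent.H892.EP.Parity
import Cfsg.Agent.H684.BlockTools
import Cfsg.Agent.H611.CoverPrincipal
import Cfsg.Agent.Blocks.PrincipalInflate

/-!
# `Good p r G`: closure properties

`Good p r G`: the principal `p`-block of `G` contains a character without fixed vectors of the Sylow
`r`-subgroups.

* `md_ne_zero_iff` : `md D χ ≠ 0` iff the representation has a nonzero vector fixed by `D`;
* `exists_fixed` : `χ` irreducible with a `P`-fixed vector, `ψ` a constituent of `χ_H`: then `ψ` has a
  nonzero vector fixed by `H ∩ g P g⁻¹` for some `g`;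
* `Good.of_sub` : from a quotient `π : H → L` of a subgroup `H` such that the images of all
  `P ∩ H`, `P` Sylow, contain Sylow subgroups of `L`;
* `Good.of_normal` : from a normal subgroup; `Good.down` : to a normal subgroup (containing the Sylow
  `r`-subgroups);
* `Good.infl` : from a quotient; `Good.quot` : to a quotient by a normal `p'`-subgroup;
* `Good.congr` : isomorphisms.
-/

set_option autoImplicit false
set_option linter.unusedSectionVars false

open scoped ComplexConjugate
open Cfsg Cfsg.Agent.Characters.Core Cfsg.Agent.Blocks.Local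

namespace Cfsg.Agent.H892.EP

universe u v

variable {G : Type u} [Group G] [Finite G]

open Representation Module in
/-- `D`-fixed vectors -/
theorem md_ne_zero_iff {V : Type*} [AddCommGroup V] [Module ℂ V] [FiniteDimensional ℂ V]
    (ρ : Representation ℂ G V) (D : Subgroup G) :
    md D ρ.character ≠ 0 ↔ ∃ w : V, w ≠ 0 ∧ ∀ d ∈ D, ρ d w = w := by
  have := Fintype.ofFinite D
  have htr : LinearMap.trace ℂ V (avg ρ D) = md D ρ.character := by
    have := trace_rho_avg ρ (Q := D) 1
    rw [map_one, one_mul] at this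
    rw [this, md_eq]
    simp only [one_mul]
  have hid := avg_mul_avg ρ (Q := D)
  have hproj : LinearMap.IsProj (LinearMap.range (avg ρ D)) (avg ρ D) :=
    ⟨fun x => ⟨x, rfl⟩, by
      rintro _ ⟨y, rfl⟩
      rw [← Module.End.mul_apply, hid]⟩
  have h1 : md D ρ.character = (finrank ℂ (LinearMap.range (avg ρ D)) : ℂ) := by
    rw [← htr, hproj.trace]
  constructor
  · intro h
    have h2 : avg ρ D ≠ 0 := by
      intro h0
      rw [← htr, h0, map_zero] at h
      exact h rfl
    obtain ⟨v, hv⟩ : ∃ v, avg ρ D v ≠ 0 := by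
      by_contra hcon
      push Not at hcon
      exact h2 (LinearMap.ext hcon)
    refine ⟨avg ρ D v, hv, fun d hd => ?_⟩
    rw [← Module.End.mul_apply, rho_mul_avg ρ hd]
  · rintro ⟨w, hw, hfix⟩
    have h2 : avg ρ D w = w := by
      unfold avg
      rw [LinearMap.smul_apply, LinearMap.sum_apply,
        Finset.sum_congr rfl fun (x : D) _ => hfix x x.2, Finset.sum_const, Finset.card_univ, ← Nat.card_eq_fintype_card,
        ← Nat.cast_smul_eq_nsmul ℂ, smul_smul, inv_mul_cancel₀ card_ne_zero_complex, one_smul]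
    rw [h1]
    have h3 : finrank ℂ (LinearMap.range (avg ρ D)) ≠ 0 := by
      rw [Submodule.finrank_eq_zero.ne]
      intro h0
      apply hw
      have : w ∈ LinearMap.range (avg ρ D) := ⟨w, h2⟩
      rw [h0] at this
      exact (Submodule.mem_bot ℂ).1 this
    exact_mod_cast h3

open Representation Module in
/-- `χ` irreducible with a `P`-fixed vector, `ψ` a constituent of `χ_H`: then `ψ` has a nonzero vector
fixed by `H ∩ g P g⁻¹` for some `g`. -/
theorem exists_fixed {V : Type*} [AddCommGroup V] [Module ℂ V] [FiniteDimensional ℂ V]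
    (ρ : Representation ℂ G V) (hρ : ρ.IsIrreducible) {P : Subgroup G} (hP : md P ρ.character ≠ 0)
    {H : Subgroup G} [Fintype H] {W : Type*} [AddCommGroup W] [Module ℂ W] [FiniteDimensional ℂ W]
    (σ : Representation ℂ H W) (h : classInner (fun h : H => ρ.character h) σ.character ≠ 0) :
    ∃ (g : G) (w : W), w ≠ 0 ∧ ∀ x : H, g⁻¹ * x * g ∈ P → σ x w = w := by
  obtain ⟨v, hv, hfix⟩ := (md_ne_zero_iff ρ P).1 hP
  let ρH : Representation ℂ H V := ρ.comp H.subtype
  have h1 : classInner σ.character ρH.character ≠ 0 := by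
    intro h0
    apply h
    have h3 := classInner_conj_symm (fun h : H => ρ.character h) σ.character
    have h4 : classInner σ.character (fun h : H => ρ.character h) = 0 := h0
    rw [h4] at h3
    exact (map_eq_zero _).1 h3
  rw [classInner_character] at h1
  have h2 : finrank ℂ (IntertwiningMap ρH σ) ≠ 0 := by exact_mod_cast h1
  obtain ⟨f, hf⟩ : ∃ f : IntertwiningMap ρH σ, f ≠ 0 := by
    by_contra hcon
    push Not at hcon
    have : Subsingleton (IntertwiningMap ρH σ) := ⟨fun a b => by rw [hcon a, hcon b]⟩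
    exact h2 (finrank_zero_of_subsingleton)
  -- `f (ρ g v) ≠ 0` for some `g`
  obtain ⟨g, hg⟩ : ∃ g : G, f (ρ g v) ≠ 0 := by
    by_contra hcon
    push Not at hcon
    let U : Subrepresentation ρ :=
      { toSubmodule := Submodule.span ℂ (Set.range fun g : G => ρ g v)
        apply_mem_toSubmodule := fun g x hx => by
          induction hx using Submodule.span_induction with
          | mem x hx =>
            obtain ⟨k, rfl⟩ := hx
            refine Submodule.subset_span ⟨g * k, ?_⟩
            simp only [map_mul, Module.End.mul_apply]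
          | zero => rw [map_zero]; exact zero_mem _
          | add x y _ _ hx hy => rw [map_add]; exact add_mem hx hy
          | smul c x _ hx => rw [map_smul]; exact Submodule.smul_mem _ _ hx }
    have hU : U = ⊤ := by
      rcases hρ.eq_bot_or_eq_top U with h3 | h3
      · exfalso
        apply hv
        have h4 : v ∈ U.toSubmodule := Submodule.subset_span ⟨1, by simp⟩
        rw [h3] at h4
        exact (Submodule.mem_bot ℂ).1 h4
      · exact h3
    apply hf
    apply IntertwiningMap.ext
    ext x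
    have hx : x ∈ U.toSubmodule := by rw [hU]; exact Submodule.mem_top
    show f x = 0
    induction hx using Submodule.span_induction with
    | mem x hx =>
      obtain ⟨k, rfl⟩ := hx
      exact hcon k
    | zero => exact map_zero f.toLinearMap
    | add x y _ _ hx hy =>
      have := map_add f.toLinearMap x y
      exact this.trans (by rw [show f.toLinearMap x = 0 from hx, show f.toLinearMap y = 0 from hy, add_zero])
    | smul c x _ hx =>
      have := map_smul f.toLinearMap c x
      exact this.trans (by rw [show f.toLinearMap x = 0 from hx, smul_zero])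
  refine ⟨g, f (ρ g v), hg, fun x hx => ?_⟩
  have h3 : σ x (f (ρ g v)) = f (ρH x (ρ g v)) := (IntertwiningMap.isIntertwining _ _ f x (ρ g v)).symm
  rw [h3]
  congr 1
  show ρ (x : G) (ρ g v) = ρ g v
  rw [← Module.End.mul_apply, ← map_mul]
  have e : (x : G) * g = g * (g⁻¹ * x * g) := by group
  rw [e, map_mul, Module.End.mul_apply, hfix _ hx]

theorem nontrivial_of_irr {W : Type*} [AddCommGroup W] [Module ℂ W]
    (σ : Representation ℂ G W) (hσ : σ.IsIrreducible) : Nontrivial W := by
  by_contra hn
  rw [not_nontrivial_iff_subsingleton] at hn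
  obtain ⟨a, b, hab⟩ := hσ.toNontrivial
  exact hab (by
    ext w
    rw [Subsingleton.elim w 0]
    exact ⟨fun _ => b.toSubmodule.zero_mem, fun _ => a.toSubmodule.zero_mem⟩)

/-- a character with `NoFix` for a subgroup contained in the fixer of a nonzero vector: contradiction -/
theorem not_noFix {W : Type*} [AddCommGroup W] [Module ℂ W] [FiniteDimensional ℂ W]
    (σ : Representation ℂ G W) {Q : Subgroup G} {w : W} (hw : w ≠ 0) (h : ∀ q ∈ Q, σ q w = w) :
    ¬ NoFix Q σ.character := by
  intro h1
  exact (md_ne_zero_iff σ Q).2 ⟨w, hw, h⟩ ((md_eq_zero_iff _ _).2 h1)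

variable {p r : ℕ} [Fact p.Prime] [Fact r.Prime]

/-- **Harish-Chandra induction**, abstract form. -/
theorem Good.of_sub {L : Type v} [Group L] [Finite L] (H : Subgroup G) (π : H →* L)
    (hπ : Function.Surjective π)
    (hP : ∀ P : Sylow r G, ∃ Q : Sylow r L, ∀ q ∈ (Q : Subgroup L), ∃ h : H, (h : G) ∈ (P : Subgroup G) ∧ π h = q)
    (hL : Good p r L) : Good p r G := by
  intro M hM
  have := Fintype.ofFinite H
  obtain ⟨ψ, hψ, hno⟩ := hL M hM
  have h1 := Cfsg.Agent.H684.BlockTools.infl_mem hM π hπ hψ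
  obtain ⟨χ, hχ, hover⟩ := exists_over hM H _ h1
  refine ⟨χ, hχ, fun U => ?_⟩
  by_contra hcon
  obtain ⟨m, σ, hσ, hσψ⟩ := ψ.2
  obtain ⟨n, ρ, hρ, hρχ⟩ := χ.2
  have h2 : md (U : Subgroup G) ρ.character ≠ 0 := by
    rw [hρχ, Ne, md_eq_zero_iff]
    exact hcon
  let σH : Representation ℂ H (Fin m → ℂ) := σ.comp π
  have h3 : σH.character = ((Cfsg.Agent.H684.BlockTools.infl π hπ ψ : IrrCharacter H) : H → ℂ) := by
    funext x
    show σ.character (π x) = (ψ : L → ℂ) (π x)
    rw [hσψ]
  obtain ⟨g, w, hw, hfix⟩ := exists_fixed ρ hρ h2 σH (by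
    rw [h3]
    have h4 : (fun h : H => ρ.character h) = fun h : H => (χ : G → ℂ) h := by rw [hρχ]
    rw [h4]
    exact hover)
  -- the Sylow subgroup `g U g⁻¹`
  obtain ⟨Q, hQ⟩ := hP (g • U)
  have h5 := hno Q
  rw [← hσψ] at h5
  refine not_noFix σ hw (fun q hq => ?_) h5
  obtain ⟨h, hhP, rfl⟩ := hQ q hq
  refine hfix h ?_
  have h6 : (h : G) ∈ ((g • U : Sylow r G) : Subgroup G) := hhP
  rw [Sylow.smul_def, Sylow.pointwise_smul_def, Subgroup.mem_pointwise_smul_iff_inv_smul_mem,
    ← map_inv, MulAut.smul_def, MulAut.conj_apply, inv_inv] at h6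
  exact h6

/-- From a normal subgroup. -/
theorem Good.of_normal {N : Subgroup G} (hN : N.Normal) (h : Good p r N) : Good p r G := by
  refine Good.of_sub N (MonoidHom.id N) Function.surjective_id (fun P => ?_) h
  -- `P ∩ N` is a Sylow subgroup of `N`
  obtain ⟨Q⟩ : Nonempty (Sylow r N) := inferInstance
  have hQp : IsPGroup r ((Q : Subgroup N).map N.subtype) := Q.isPGroup'.map _
  obtain ⟨P', hP'⟩ := hQp.exists_le_sylow
  obtain ⟨g, hg⟩ := MulAction.exists_smul_eq G P' P
  let e : N ≃* N := MulAut.conjNormal g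
  refine ⟨Q.comapOfInjective e.symm.toMonoidHom e.symm.injective (fun x _ => ⟨e x, e.symm_apply_apply x⟩),
    fun q hq => ⟨q, ?_, rfl⟩⟩
  have h1 : e.symm q ∈ (Q : Subgroup N) := hq
  have h2 : ((e.symm q : N) : G) ∈ (P' : Subgroup G) := hP' ⟨_, h1, rfl⟩
  have h3 : ((e.symm q : N) : G) = g⁻¹ * q * g := by
    show (((MulAut.conjNormal g : MulAut N).symm q : N) : G) = _
    rw [MulAut.conjNormal_symm_apply]
  rw [h3] at h2
  rw [← hg]
  show (q : G) ∈ ((g • P' : Sylow r G) : Subgroup G)
  rw [Sylow.smul_def, Sylow.pointwise_smul_def, Subgroup.mem_pointwise_smul_iff_inv_smul_mem,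
    ← map_inv, MulAut.smul_def, MulAut.conj_apply, inv_inv]
  exact h2

/-- From a quotient. -/
theorem Good.infl {L : Type v} [Group L] [Finite L] (f : G →* L) (hf : Function.Surjective f)
    (h : Good p r L) : Good p r G := by
  intro M hM
  obtain ⟨ψ, hψ, hno⟩ := h M hM
  refine ⟨_, Cfsg.Agent.H684.BlockTools.infl_mem hM f hf hψ, fun U => ?_⟩
  by_contra hcon
  obtain ⟨m, σ, hσ, hσψ⟩ := ψ.2
  let σH : Representation ℂ G (Fin m → ℂ) := σ.comp f
  have h3 : σH.character = ((Cfsg.Agent.H684.BlockTools.infl f hf ψ : IrrCharacter G) : G → ℂ) := by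
    funext x
    show σ.character (f x) = (ψ : L → ℂ) (f x)
    rw [hσψ]
  rw [← h3, ← md_eq_zero_iff] at hcon
  obtain ⟨w, hw, hfix⟩ := (md_ne_zero_iff σH U).1 hcon
  have h4 := hno (U.mapSurjective hf)
  rw [← hσψ] at h4
  refine not_noFix σ hw (fun q hq => ?_) h4
  obtain ⟨x, hx, rfl⟩ := hq
  exact hfix x hx

/-- To a quotient by a normal `p'`-subgroup. -/
theorem Good.quot {L : Type v} [Group L] [Finite L] (f : G →* L) (hf : Function.Surjective f)
    (hk : ¬ p ∣ Nat.card f.ker) (h : Good p r G) : Good p r L := by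
  intro M hM
  obtain ⟨χ, hχ, hno⟩ := h M hM
  obtain ⟨ψ, hψ, he⟩ := Cfsg.Agent.Blocks.PrincipalInflate.exists_comp hM hf hk hχ
  refine ⟨ψ, hψ, fun V => ?_⟩
  by_contra hcon
  obtain ⟨m, σ, hσ, hσψ⟩ := ψ.2
  rw [← hσψ, ← md_eq_zero_iff] at hcon
  obtain ⟨w, hw, hfix⟩ := (md_ne_zero_iff σ V).1 hcon
  let σH : Representation ℂ G (Fin m → ℂ) := σ.comp f
  have h3 : σH.character = (χ : G → ℂ) := by
    rw [he]
    funext x
    show σ.character (f x) = (ψ : L → ℂ) (f x)
    rw [hσψ]
  -- a Sylow subgroup mapping onto `V`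
  obtain ⟨U, hU⟩ := Sylow.mapSurjective_surjective hf r V
  have h4 := hno U
  rw [← h3] at h4
  refine not_noFix σH hw (fun q hq => ?_) h4
  exact hfix _ (by rw [← hU]; exact ⟨q, hq, rfl⟩)

theorem Good.congr {L : Type v} [Group L] [Finite L] (e : G ≃* L) (h : Good p r G) : Good p r L :=
  Good.infl (G := L) e.symm.toMonoidHom e.symm.surjective h

open Representation in
/-- To a normal subgroup containing the Sylow `r`-subgroups. -/
theorem Good.down {N : Subgroup G} (hN : N.Normal) (hr : ¬ r ∣ N.index) (h : Good p r G) :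
    Good p r N := by
  intro M hM
  have := Fintype.ofFinite G
  have := Fintype.ofFinite N
  obtain ⟨χ, hχ, hno⟩ := h M hM
  obtain ⟨n, ρ, hρ, hρχ⟩ := χ.2
  let ρN : Representation ℂ N (Fin n → ℂ) := ρ.comp N.subtype
  have hnt : Nontrivial (Fin n → ℂ) := nontrivial_of_irr ρ hρ
  obtain ⟨U, hU⟩ := exists_irreducible_sub ρN
  have hθ : IsIrrCharacter N U.toRepresentation.character := isIrrCharacter_of_rep _ hU
  have hover : classInner (fun x : N => (χ : G → ℂ) x) U.toRepresentation.character ≠ 0 := by
    have h1 : (fun x : N => (χ : G → ℂ) x) = ρN.character := by rw [← hρχ]; rfl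
    rw [h1, classInner_character]
    let f : IntertwiningMap U.toRepresentation ρN :=
      LinearMap.intertwiningMap_of_isIntertwiningMap _ _ U.toSubmodule.subtype (fun g v => rfl)
    have hf : f ≠ 0 := by
      intro h0
      have hnU := nontrivial_of_irr _ hU
      obtain ⟨v, hv⟩ := exists_ne (0 : U.toSubmodule)
      apply hv
      have h2 : f v = 0 := by rw [h0]; rfl
      exact Subtype.ext h2
    have : Nontrivial (IntertwiningMap U.toRepresentation ρN) := ⟨f, 0, hf⟩
    exact_mod_cast (Module.finrank_pos (R := ℂ) (M := IntertwiningMap U.toRepresentation ρN)).ne'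
  refine ⟨⟨_, hθ⟩, Cfsg.Agent.H611.CoverPrincipal.mem_principalBlock_of_over p hM N χ ⟨_, hθ⟩ hover hχ,
    fun V => ?_⟩
  by_contra hcon
  change ¬ NoFix (V : Subgroup N) U.toRepresentation.character at hcon
  rw [← md_eq_zero_iff] at hcon
  obtain ⟨w, hw, hfix⟩ := (md_ne_zero_iff _ _).1 hcon
  -- `V` is a Sylow subgroup of `G`
  have hVp : IsPGroup r ((V : Subgroup N).map N.subtype) := V.isPGroup'.map _
  obtain ⟨P, hP⟩ := hVp.exists_le_sylow
  have hcard : Nat.card (P : Subgroup G) ≤ Nat.card ((V : Subgroup N).map N.subtype) := by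
    rw [Subgroup.card_map_of_injective N.subtype_injective, P.card_eq_multiplicity, V.card_eq_multiplicity]
    apply Nat.pow_le_pow_right (Fact.out : r.Prime).pos
    rw [← N.card_mul_index, Nat.factorization_mul Nat.card_pos.ne' N.index_ne_zero_of_finite,
      Finsupp.add_apply, Nat.factorization_eq_zero_of_not_dvd hr, add_zero]
  have hPV : (V : Subgroup N).map N.subtype = (P : Subgroup G) := Subgroup.eq_of_le_of_card_ge hP hcard
  have h4 := hno P
  rw [← hρχ] at h4
  refine not_noFix ρ (w := (w : Fin n → ℂ)) (fun h0 => hw (Subtype.ext h0)) (fun q hq => ?_) h4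
  rw [← hPV] at hq
  obtain ⟨x, hx, rfl⟩ := hq
  exact congrArg Subtype.val (hfix x hx)

end Cfsg.Agent.H892.EP
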