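import Cfsg.Agent.H892.EP.Rows
import Cfsg.Agent.OddHalf.Known
import Cfsg.Agent.H417.RecogMathieu

/-!
# S4929: assembly of all rows by the classification

`evAt_of_known_of` : the statement S4929 from the rows and the classification in `Type`.
-/

set_option autoImplicit false
set_option linter.unusedSectionVars false

open Cfsg Cfsg.Agent.Characters.Core

namespace Cfsg.Agent.H892.EP

universe u

theorem SpRows.row (R : SpRows) {K : Type} [Group K] [Finite K] [IsSimpleGroup K] (h : IsSporadicGroup K) {p : ℕ}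
    [hp : Fact p.Prime] (hp2 : p ≠ 2) (hd : p ∣ Nat.card K) (hexc : ¬ (p = 7 ∧ IsM22 K)) : EvAt p K := by
  rcases h with h | h | h | h | h | h | h | h | h | h | h | h | h | h | h | h | h | h | h | h | h | h | h | h | h | h
  · exact R.m11 K h p hp.out hp2 hd
  · exact R.m12 K h p hp.out hp2 hd
  · exact R.m22 K h p hp.out hp2 (fun h7 => hexc ⟨h7, Cfsg.Agent.H417.RecogMathieu.isM22 h⟩) hd
  · exact R.m23 K h p hp.out hp2 hd
  · exact R.m24 K h p hp.out hp2 hd
  · exact R.j1 K h p hp.out hp2 hd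
  · exact R.j2 K h p hp.out hp2 hd
  · exact R.j3 K h p hp.out hp2 hd
  · exact R.j4 K h p hp.out hp2 hd
  · exact R.co1 K h p hp.out hp2 hd
  · exact R.co2 K h p hp.out hp2 hd
  · exact R.co3 K h p hp.out hp2 hd
  · exact R.mcl K h p hp.out hp2 hd
  · exact R.hs K h p hp.out hp2 hd
  · exact R.suz K h p hp.out hp2 hd
  · exact R.he K h p hp.out hp2 hd
  · exact R.ru K h p hp.out hp2 hd
  · exact R.on K h p hp.out hp2 hd
  · exact R.ly K h p hp.out hp2 hd
  · exact R.fi22 K h p hp.out hp2 hd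
  · exact R.fi23 K h p hp.out hp2 hd
  · exact R.fi24 K h p hp.out hp2 hd
  · exact R.hn K h p hp.out hp2 hd
  · exact R.th K h p hp.out hp2 hd
  · exact R.b K h p hp.out hp2 hd
  · exact R.m K h p hp.out hp2 hd

/-- **S4929 from the rows and the classification in `Type`.** -/
theorem evAt_of_known_of (hcl : ∀ (K : Type) [Group K] [Finite K] [IsSimpleGroup K], IsKnownSimple' K)
    (halt : ∀ n : ℕ, 5 ≤ n → Ev ↥(alternatingGroup (Fin n)))
    (hlie : ∀ (K : Type) [Group K] [Finite K] [IsSimpleGroup K] (t : ℕ), t.Prime → IsLieTypeChar t K → Ev K)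
    (htits : SpRow fun K => Lie.IsoTits K) (R : SpRows) {K : Type u} [Group K] [Finite K] [IsSimpleGroup K]
    (hna : ¬ IsMulCommutative K) (p : ℕ) [hp : Fact p.Prime] (hp2 : p ≠ 2) (hd : p ∣ Nat.card K)
    (hexc : ¬ (p = 7 ∧ IsM22 K)) : EvAt p K := by
  -- a copy in `Type`
  obtain ⟨K0, iK0, ⟨e⟩⟩ : ∃ (K0 : Type) (_ : Group K0), Nonempty (K0 ≃* K) :=
    ⟨Fin (Nat.card K), (Finite.equivFin K).symm.group, ⟨(Finite.equivFin K).symm.mulEquiv⟩⟩
  have hfin : Finite K0 := Finite.of_equiv K e.symm.toEquiv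
  have hsim : IsSimpleGroup K0 := (MulEquiv.isSimpleGroup_congr e).2 inferInstance
  have hna0 : ¬ IsMulCommutative K0 := by
    intro h
    apply hna
    refine ⟨⟨fun a b => ?_⟩⟩
    have h1 := h.is_comm.comm (e.symm a) (e.symm b)
    have h2 := congrArg e h1
    simpa using h2
  have hd0 : p ∣ Nat.card K0 := by rw [Nat.card_congr e.toEquiv]; exact hd
  have hexc0 : ¬ (p = 7 ∧ IsM22 K0) := by
    rintro ⟨h7, h22⟩
    exact hexc ⟨h7, inferInstance, by rw [← Nat.card_congr e.toEquiv]; exact h22.2⟩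
  refine EvAt.tr e ?_
  rcases Cfsg.Agent.OddHalf.Known.classify' hna0 (hcl K0) with h | ⟨t, ht, h⟩ | h | h
  · obtain ⟨n, hn, ⟨f⟩⟩ := h
    exact EvAt.tr f.symm (halt n hn p hp.out hp2 (by rw [← Nat.card_congr f.toEquiv]; exact hd0))
  · exact hlie K0 t ht h p hp.out hp2 hd0
  · exact htits K0 h p hp.out hp2 hd0
  · exact R.row h hp2 hd0 hexc0

end Cfsg.Agent.H892.EP
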