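import Cfsg.Agent.H892.EP.Cusp
import Cfsg.Agent.H892.EP.Rows
import Cfsg.Agent.H622.Levi.Chain

/-!
# S4929: Levi subgroups of type `A` of root group data

`good_MJ_of_chain` : `R : RGD`, `k` a chain of type `A_m` in the diagram, root groups of order `q`,
`m + 1 = ord_p(q)`: `Good p r ↥(MJ cs h X (Set.range k))`.
-/

set_option autoImplicit false
set_option linter.unusedSectionVars false

namespace Cfsg.Agent.H892.EP

open CoxeterSystem Cfsg.Agent.ChevalleyStructure.CoxeterGeom Cfsg.Agent.Tits.Roots Cfsg.Agent.Tits.Core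
  Cfsg.Agent.Nodes.Reps Cfsg.Agent.Nodes.BNOf Cfsg.Agent.Nodes.StabComb
  Cfsg.Agent.Nodes.SubComb Cfsg.Agent.Nodes.Sub Cfsg.Agent.H53.HC Cfsg.Agent.H622.Levi
open Cfsg.Agent.LieRecognition.BNCox (cA)
open Matrix

universe u

variable {I W : Type*} {Y : Type u} [Fintype I] [DecidableEq I] [Group W] [Group Y] [Finite Y] {M : CoxeterMatrix I}
  {cs : CoxeterSystem M W} {A : I → I → ℤ} {h : IsCartan M A} {r : ℕ} {T : Subgroup Y} {n : I → Y}
  {X : (I → ℤ) → Subgroup Y}

theorem not_dvd_ker {F : Type*} [Field F] [Finite F] {p d : ℕ} [Fact p.Prime] (hp : ¬ p ∣ Nat.card F - 1)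
    {K : Subgroup (SpecialLinearGroup (Fin d) F)} (hK : K ≤ Subgroup.center _) : ¬ p ∣ Nat.card K := by
  intro hd
  obtain ⟨z, hz⟩ := exists_prime_orderOf_dvd_card' p hd
  have hz' := hK z.2
  rw [Matrix.SpecialLinearGroup.mem_center_iff] at hz'
  obtain ⟨c, hc, hc2⟩ := hz'
  have hp' : p.Prime := Fact.out
  rcases Nat.eq_zero_or_pos d with h0 | h0
  · subst h0
    have h1 : z = 1 := Subtype.ext (Subsingleton.elim _ _)
    rw [h1, orderOf_one] at hz
    exact hp'.one_lt.ne hz
  have hzp : (z : SpecialLinearGroup (Fin d) F) ^ p = 1 := by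
    rw [← Subgroup.coe_pow, ← hz, pow_orderOf_eq_one]; rfl
  have hcp : c ^ p = 1 := by
    have h1 := congrArg Subtype.val hzp
    rw [Matrix.SpecialLinearGroup.coe_pow, ← hc2, ← map_pow, Matrix.SpecialLinearGroup.coe_one] at h1
    have h2 := congrFun (congrFun h1 ⟨0, h0⟩) ⟨0, h0⟩
    rwa [scalar_apply, diagonal_apply_eq, one_apply_eq] at h2
  have hc1 : c ≠ 1 := by
    rintro rfl
    rw [map_one] at hc2
    have h1 : z = 1 := Subtype.ext (Subtype.ext hc2.symm)
    rw [h1, orderOf_one] at hz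
    exact hp'.one_lt.ne hz
  have hc0 : c ≠ 0 := by
    rintro rfl
    rw [zero_pow hp'.ne_zero] at hcp
    exact zero_ne_one hcp
  have h1 : orderOf (Units.mk0 c hc0) ∣ p := orderOf_dvd_of_pow_eq_one (Units.ext (by simpa using hcp))
  rcases (Nat.dvd_prime hp').1 h1 with h2 | h2
  · rw [orderOf_eq_one_iff] at h2
    exact hc1 (congrArg Units.val h2)
  · have h3 := orderOf_dvd_natCard (Units.mk0 c hc0)
    rw [h2, Nat.card_units] at h3
    exact hp h3

theorem card_of_co {m : ℕ} {k : Fin m → I} {F : Type} [Field F] [Finite F]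
    {φ : SpecialLinearGroup (Fin (m + 1)) F →* Y} (C : Co X k F φ) (i : Fin m) :
    Nat.card (X (sr (k i))) = Nat.card F := by
  have hne : i.castSucc ≠ i.succ := (Fin.castSucc_lt_succ).ne
  have h1 := C.root _ _ hne
  rw [cr_succ] at h1
  have h2 : Function.Injective fun t : F => φ (SpecialLinearGroup.transvection hne t) := by
    intro s t hst
    have h3 : φ (SpecialLinearGroup.transvection hne s * (SpecialLinearGroup.transvection hne t)⁻¹) = 1 := by
      rw [map_mul, map_inv]
      simp only at hst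
      rw [hst, mul_inv_cancel]
    have h4 := C.ker (MonoidHom.mem_ker.2 h3)
    rw [Matrix.SpecialLinearGroup.mem_center_iff] at h4
    obtain ⟨c, -, hc⟩ := h4
    have h5 : (Matrix.scalar (Fin (m + 1)) c) * (SpecialLinearGroup.transvection hne t : Matrix _ _ F) =
        (SpecialLinearGroup.transvection hne s : Matrix _ _ F) := by
      rw [hc]
      refine (Matrix.SpecialLinearGroup.coe_mul _ _).symm.trans ?_
      rw [inv_mul_cancel_right]
    have h6 := congrFun (congrFun h5 i.castSucc) i.castSucc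
    have h7 := congrFun (congrFun h5 i.castSucc) i.succ
    have e : ∀ u : F, (SpecialLinearGroup.transvection hne u : Matrix (Fin (m + 1)) (Fin (m + 1)) F) =
        Matrix.transvection i.castSucc i.succ u := fun u => rfl
    rw [e, e, Matrix.scalar_apply, Matrix.diagonal_mul] at h6 h7
    simp [Matrix.transvection, Matrix.single, hne, hne.symm] at h6 h7
    rw [h6, one_mul] at h7
    exact h7.symm
  have h3 : Nat.card (X (sr (k i)) : Set Y) = Nat.card F := by
    rw [h1]
    exact Nat.card_range_of_injective h2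
  exact h3

theorem good_MJ_of_chain [Finite W] [Fact r.Prime] (R : RGD cs h r T n X) {m : ℕ} (hm : 1 ≤ m) (k : Fin m ↪ I)
    (hk : ∀ i j, M (k i) (k j) = cA m i j) (hm1 : m = 1 → ∃ i j, k i = k ⟨0, by omega⟩ ∧ M (k i) j = 3)
    {p : ℕ} [Fact p.Prime] {q : ℕ} (hq : Nat.card (X (sr (k ⟨0, by omega⟩))) = q) (h1 : p ∣ q ^ (m + 1) - 1)
    (h2 : ∀ i, 0 < i → i < m + 1 → ¬ p ∣ q ^ i - 1) : Good p r ↥(MJ cs h X (Set.range k)) := by
  obtain ⟨F, iF, iF', φ, C⟩ : ∃ (F : Type) (_ : Field F) (_ : Fintype F)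
      (φ : SpecialLinearGroup (Fin (m + 1)) F →* Y), Co X k F φ := by
    rcases Nat.lt_or_ge m 2 with h3 | h3
    · obtain rfl : m = 1 := by omega
      obtain ⟨i, j, -, hij⟩ := hm1 rfl
      obtain ⟨F, i1, i2, φ, C⟩ := exists_co_one R (k i) j hij
      refine ⟨F, i1, i2, φ, ?_⟩
      have : (fun _ : Fin 1 => k i) = k := by
        funext j
        rw [Subsingleton.elim j i]
      rwa [this] at C
    · exact exists_co R h3 k hk
  have hcard : Nat.card F = q := by
    rw [← hq, card_of_co C]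
  -- the characteristic
  have hchar : CharP F r := by
    obtain ⟨l, hl⟩ := CharP.exists F
    have hl' : l.Prime := CharP.char_is_prime F l
    obtain ⟨e, he, he2⟩ := FiniteField.card F l
    obtain ⟨e', he'⟩ := (IsPGroup.iff_card (p := r)).1 (R.pgrp (k ⟨0, by omega⟩))
    rw [hq, ← hcard, Nat.card_eq_fintype_card, he2] at he'
    have h3 : l ∣ r ^ e' := by rw [← he']; exact dvd_pow_self l e.ne_zero
    have h4 := (Nat.prime_dvd_prime_iff_eq hl' (Fact.out : r.Prime)).1 (hl'.dvd_of_dvd_pow h3)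
    rw [← h4]
    exact hl
  have hg : Good p r (SpecialLinearGroup (Fin (m + 1)) F) :=
    good_sl (by omega) (by rw [hcard]; exact h1) (by rw [hcard]; exact h2)
  have hrange : φ.range = MJ cs h X (Set.range k) := C.range (cs := cs) (h := h) (X := X) hk (by omega)
  rw [← hrange]
  refine Good.quot φ.rangeRestrict φ.rangeRestrict_surjective ?_ hg
  rw [MonoidHom.ker_rangeRestrict]
  refine not_dvd_ker ?_ C.ker
  rw [hcard]
  have := h2 1 one_pos (by omega)
  rwa [pow_one] at this

end Cfsg.Agent.H892.EP
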