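import Cfsg.Agent.H537.EP.QTwo
import Cfsg.Agent.H892.EP.Cusp
import Cfsg.Agent.H583.EP.GoodPsl
import Cfsg.Agent.H537.EP.TACl
import Cfsg.Agent.H475.EP.Psu
import Cfsg.Agent.H346.EP.Exc
import Cfsg.Agent.H486.EP.GoodTw

/-!
# S4929: the pieces in the form used by the assembly (`PcGood`)
-/

set_option autoImplicit false
set_option linter.unusedSectionVars false
set_option linter.unusedVariables false

open Cfsg Cfsg.Agent.Characters.Core Cfsg.Agent.H892.EP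
open CoxeterSystem Cfsg.Agent.ChevalleyStructure.CoxeterGeom Cfsg.Agent.Tits.Roots Cfsg.Agent.Tits.Core
  Cfsg.Agent.Nodes.Reps Cfsg.Agent.Nodes.BNOf Cfsg.Agent.Omega.EH3.Kf.Lev Cfsg.Agent.Nodes.StabComb
open Matrix

namespace Cfsg.Agent.H892.EP.Pc

universe u v

section Q

variable {I W : Type*} {Y : Type u} [Fintype I] [DecidableEq I] [Group W] [Group Y] [Finite Y] {M : CoxeterMatrix I}
  {cs : CoxeterSystem M W} {A : I → I → ℤ} {h : IsCartan M A} {T : Subgroup Y} {n : I → Y}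
  {X : (I → ℤ) → Subgroup Y}

theorem evAt_q2 [Finite W] {r : ℕ} [Fact r.Prime] (hr : r ≠ 2) (R : RGD cs h r T n X) (hG : Cfsg.Agent.Nodes.RGDLib.G1 cs h X = ⊤)
    (hT : ∀ a ∈ T, ∀ b ∈ T, a * b = b * a) (hpar : ParU r Y) {p : ℕ} [Fact p.Prime] (hp2 : p ≠ 2) (hpr : p ≠ r)
    (hmv : ∃ i, ∃ t ∈ T, (∃ k : ℕ, t ^ p ^ k = 1) ∧ n i * t ≠ t * n i) : EvAt p Y :=
  Cfsg.Agent.H537.EP.evAt_q2 hr R hG hT hpar hp2 hpr hmv

end Q

section TA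

variable {F : Type} [Field F] [Fintype F] {r : ℕ} [Fact r.Prime] [CharP F r] {p : ℕ} [Fact p.Prime]

theorem good_sl (hr : r ≠ 2) (hp2 : p ≠ 2) {d : ℕ} (hd : 2 ≤ d) (h1 : p ∣ Fintype.card F ^ d - 1)
    (h2 : ∀ i, 0 < i → i < d → ¬ p ∣ Fintype.card F ^ i - 1) : Good p r (SpecialLinearGroup (Fin d) F) := by
  rw [← Nat.card_eq_fintype_card] at h1 h2
  exact Cfsg.Agent.H892.EP.good_sl hd h1 h2

theorem good_psl {n d : ℕ} (hn : 3 ≤ n) (hd : 2 ≤ d) (hdn : d ≤ n) (hp : ¬ p ∣ Fintype.card F - 1)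
    (h : Good p r (SpecialLinearGroup (Fin d) F)) : Good p r (ProjectiveSpecialLinearGroup (Fin n) F) :=
  Cfsg.Agent.H583.EP.good_psl hn hd hdn hp h

theorem good_psp (hp2 : p ≠ 2) {m d : ℕ} (hm : 2 ≤ m) (hd : 2 ≤ d) (hdn : d ≤ m)
    (h : Good p r (SpecialLinearGroup (Fin d) F)) : Good p r (PSp m F) :=
  Cfsg.Agent.H537.EP.good_psp hp2 hm hd hdn h

theorem good_psu (hp2 : p ≠ 2) {n q d : ℕ} (hq : Fintype.card F = q ^ 2) (hn : 4 ≤ n) (hd : 2 ≤ d) (hdn : 2 * d ≤ n)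
    (hp : ¬ p ∣ q ^ 2 - 1) (h : Good p r (SpecialLinearGroup (Fin d) F)) : Good p r (PSU n F q) :=
  Cfsg.Agent.H475.EP.good_psu hq hn hd hdn hp h

theorem good_oodd (hr : r ≠ 2) (hp2 : p ≠ 2) {m d : ℕ} (hm : 3 ≤ m) (hd : 2 ≤ d) (hdn : d ≤ m)
    (h : Good p r (SpecialLinearGroup (Fin d) F)) : Good p r (POmega F (quadFormOdd m F)) :=
  Cfsg.Agent.H537.EP.good_oodd hr hp2 hm hd hdn h

theorem good_oplus (hr : r ≠ 2) (hp2 : p ≠ 2) {m d : ℕ} (hm : 4 ≤ m) (hd : 2 ≤ d) (hdn : d ≤ m)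
    (h : Good p r (SpecialLinearGroup (Fin d) F)) : Good p r (POmega F (quadFormPlus m F)) :=
  Cfsg.Agent.H537.EP.good_oplus hr hp2 hm hd hdn h

theorem good_ominus (hr : r ≠ 2) (hp2 : p ≠ 2) {m d : ℕ} (hm : 4 ≤ m) (a b : F)
    (hab : ∀ z₁ z₂ : F, z₁ ^ 2 + a * z₁ * z₂ + b * z₂ ^ 2 = 0 → z₁ = 0 ∧ z₂ = 0) (hd : 2 ≤ d) (hdn : d ≤ m - 1)
    (h : Good p r (SpecialLinearGroup (Fin d) F)) : Good p r (POmega F (quadFormMinus (m - 1) F a b)) :=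
  Cfsg.Agent.H537.EP.good_ominus hr hp2 hm a b hab hd hdn h

theorem good_g2 (hp2 : p ≠ 2) (h : Good p r (SpecialLinearGroup (Fin 2) F)) : Good p r ↥(Lie.chevG2.group F) :=
  Cfsg.Agent.H346.EP.good_g2 hp2 h

theorem good_f4 (hp : ¬ p ∣ Fintype.card F - 1) {d : ℕ} (hd : d = 2 ∨ d = 3)
    (h : Good p r (SpecialLinearGroup (Fin d) F)) : Good p r ↥(Lie.chevF4.group F) :=
  Cfsg.Agent.H346.EP.good_f4 hp hd h

theorem good_e6 (hp : ¬ p ∣ Fintype.card F - 1) {d : ℕ} (hd : 2 ≤ d) (hd6 : d ≤ 6)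
    (h : Good p r (SpecialLinearGroup (Fin d) F)) : Good p r ↥(Lie.chevE6.group F) :=
  Cfsg.Agent.H346.EP.good_e6 hp hd hd6 h

theorem good_e7 (hp : ¬ p ∣ Fintype.card F - 1) {d : ℕ} (hd : 2 ≤ d) (hd6 : d ≤ 7)
    (h : Good p r (SpecialLinearGroup (Fin d) F)) : Good p r ↥(Lie.chevE7.group F) :=
  Cfsg.Agent.H346.EP.good_e7 hp hd hd6 h

theorem good_e8 (hp : ¬ p ∣ Fintype.card F - 1) {d : ℕ} (hd : 2 ≤ d) (hd6 : d ≤ 8)
    (h : Good p r (SpecialLinearGroup (Fin d) F)) : Good p r ↥(Lie.chevE8.group F) :=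
  Cfsg.Agent.H346.EP.good_e8 hp hd hd6 h

theorem good_te6 {q : ℕ} (hq : IsPrimePow q) (hF : Fintype.card F = q ^ 2) (hp : ¬ p ∣ q ^ 2 - 1) {d : ℕ}
    (hd : d = 2 ∨ d = 3) (h : Good p r (SpecialLinearGroup (Fin d) F)) : Good p r (Lie.twistedE6 F q) :=
  Cfsg.Agent.H486.EP.good_te6 hq hF hp hd h

theorem good_td4 {q : ℕ} (hq : IsPrimePow q) (hF : Fintype.card F = q ^ 3) (hp2 : p ≠ 2)
    (h : Good p r (SpecialLinearGroup (Fin 2) F)) : Good p r (Lie.twistedD4 F q) :=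
  Cfsg.Agent.H486.EP.good_td4 hq hF hp2 h

end TA

end Cfsg.Agent.H892.EP.Pc
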