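import Cfsg.Agent.H724.EP.PslPar
import Cfsg.Agent.H65.EP.PuPsp
import Cfsg.Agent.H724.EP.PsuPar
import Cfsg.Agent.H485.EP.PuO
import Cfsg.Agent.H334.EP.InvChev

/-!
# S4929: the pieces in the form used by the assembly (`PcPU`)
-/

set_option autoImplicit false
set_option linter.unusedSectionVars false
set_option linter.unusedVariables false

open Cfsg Cfsg.Agent.Characters.Core Cfsg.Agent.H892.EP
open CoxeterSystem Cfsg.Agent.ChevalleyStructure.CoxeterGeom Cfsg.Agent.Tits.Roots Cfsg.Agent.Tits.Core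
  Cfsg.Agent.Nodes.Reps Cfsg.Agent.Nodes.BNOf Cfsg.Agent.Omega.EH3.Kf.Lev Cfsg.Agent.Nodes.StabComb
open Matrix

namespace Cfsg.Agent.H892.EP.Pc

universe u v

section TM

variable {F : Type} [Field F] [Fintype F] {r : ℕ} [Fact r.Prime] [CharP F r]

theorem pu_psl (hr : r ≠ 2) {n : ℕ} (hn : 3 ≤ n) : ParU r (ProjectiveSpecialLinearGroup (Fin n) F) :=
  Cfsg.Agent.H724.EP.pu_psl hr hn

theorem pu_psp (hr : r ≠ 2) {m : ℕ} (hm : 2 ≤ m) (hmq : Even m ∨ Fintype.card F % 4 = 1) : ParU r (PSp m F) :=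
  Cfsg.Agent.H65.EP.pu_psp hr hm hmq

theorem pu_psu (hr : r ≠ 2) {n q : ℕ} (hq : Fintype.card F = q ^ 2) (hn : 3 ≤ n) : ParU r (PSU n F q) :=
  Cfsg.Agent.H724.EP.pu_psu hr hq hn

theorem pu_oodd (hr : r ≠ 2) {m : ℕ} (hm : 3 ≤ m) : ParU r (POmega F (quadFormOdd m F)) :=
  Cfsg.Agent.H485.EP.pu_oodd hr hm

theorem pu_oplus (hr : r ≠ 2) {m : ℕ} (hm : 4 ≤ m) : ParU r (POmega F (quadFormPlus m F)) :=
  Cfsg.Agent.H485.EP.pu_oplus hr hm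

theorem pu_ominus (hr : r ≠ 2) {m : ℕ} (hm : 4 ≤ m) (a b : F)
    (hab : ∀ z₁ z₂ : F, z₁ ^ 2 + a * z₁ * z₂ + b * z₂ ^ 2 = 0 → z₁ = 0 ∧ z₂ = 0) :
    ParU r (POmega F (quadFormMinus (m - 1) F a b)) :=
  Cfsg.Agent.H485.EP.pu_ominus hr hm a b hab

theorem pu_g2 (hr : r ≠ 2) : ParU r ↥(Lie.chevG2.group F) :=
  Cfsg.Agent.H334.EP.pu_g2 hr

theorem pu_f4 (hr : r ≠ 2) : ParU r ↥(Lie.chevF4.group F) :=
  Cfsg.Agent.H334.EP.pu_f4 hr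

theorem pu_e6 (hr : r ≠ 2) : ParU r ↥(Lie.chevE6.group F) :=
  Cfsg.Agent.H334.EP.pu_e6 hr

theorem pu_e7 (hr : r ≠ 2) : ParU r ↥(Lie.chevE7.group F) :=
  Cfsg.Agent.H334.EP.pu_e7 hr

theorem pu_e8 (hr : r ≠ 2) : ParU r ↥(Lie.chevE8.group F) :=
  Cfsg.Agent.H334.EP.pu_e8 hr

theorem pu_te6 (hr : r ≠ 2) {q : ℕ} (hq : IsPrimePow q) (hF : Fintype.card F = q ^ 2) : ParU r (Lie.twistedE6 F q) :=
  Cfsg.Agent.H334.EP.pu_te6 hr hq hF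

theorem pu_td4 (hr : r ≠ 2) {q : ℕ} (hq : IsPrimePow q) (hF : Fintype.card F = q ^ 3) : ParU r (Lie.twistedD4 F q) :=
  Cfsg.Agent.H334.EP.pu_td4 hr hq hF

end TM

end Cfsg.Agent.H892.EP.Pc
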