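import Mathlib
import Cfsg.Agent.H892.EP.Defs
import Cfsg.Agent.CharactersDeep.ModCongr
import Cfsg.Agent.Blocks.ExistsModular
import Cfsg.Agent.Characters.Values

/-!
# Lemma (E): the parity of a character degree

`Q` a subgroup of odd order of the finite group `G`, `A` a 2-subgroup normalising `Q`. For every character
`χ` of `G` the dimensions of the spaces of fixed vectors of `Q` and of `C_Q(A)` have the same parity
(`parity`). In particular, if `C_Q(A) = 1`, then `χ(1) ≡ ⟨χ_Q, 1_Q⟩ mod 2` (`parity_one`); `par_of_inv2`: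
if `Q` is a Sylow subgroup, then characters without `Q`-fixed vectors have even degree.
-/

set_option autoImplicit false
set_option linter.unusedSectionVars false

open scoped ComplexConjugate
open Cfsg Cfsg.Agent.Characters.Core Cfsg.Agent.Blocks.Local

namespace Cfsg.Agent.H892.EP

universe u

variable {G : Type u} [Group G] [Finite G]

section rep

variable {V : Type*} [AddCommGroup V] [Module ℂ V] [FiniteDimensional ℂ V]
  (ρ : Representation ℂ G V) (Q : Subgroup G)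

/-- the projection onto the `Q`-fixed vectors -/
noncomputable def avg [Fintype Q] : Module.End ℂ V := (Nat.card Q : ℂ)⁻¹ • ∑ x : Q, ρ x

variable {Q}

theorem rho_mul_avg [Fintype Q] {y : G} (hy : y ∈ Q) : ρ y * avg ρ Q = avg ρ Q := by
  unfold avg
  rw [mul_smul_comm, Finset.mul_sum]
  congr 1
  refine Fintype.sum_equiv (Equiv.mulLeft (⟨y, hy⟩ : Q)) _ _ fun x => ?_
  rw [← map_mul]
  rfl

theorem avg_mul_avg [Fintype Q] : avg ρ Q * avg ρ Q = avg ρ Q := by
  have h1 : avg ρ Q * avg ρ Q = (Nat.card Q : ℂ)⁻¹ • ∑ x : Q, ρ x * avg ρ Q := by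
    rw [← Finset.sum_mul, ← smul_mul_assoc]
    rfl
  rw [h1, Finset.sum_congr rfl fun x _ => rho_mul_avg ρ x.2,
    Finset.sum_const, Finset.card_univ, ← Nat.card_eq_fintype_card, ← Nat.cast_smul_eq_nsmul ℂ,
    smul_smul, inv_mul_cancel₀ card_ne_zero_complex, one_smul]

theorem rho_comm_avg [Fintype Q] {a : G} (ha : a ∈ Subgroup.normalizer (Q : Set G)) :
    ρ a * avg ρ Q = avg ρ Q * ρ a := by
  unfold avg
  rw [mul_smul_comm, smul_mul_assoc, Finset.mul_sum, Finset.sum_mul]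
  congr 1
  let e : Q ≃ Q :=
    { toFun := fun x => ⟨a * x * a⁻¹, (Subgroup.mem_normalizer_iff.1 ha x).1 x.2⟩
      invFun := fun x => ⟨a⁻¹ * x * a, by
        have := (Subgroup.mem_normalizer_iff.1 (inv_mem ha) x).1 x.2
        rwa [inv_inv] at this⟩
      left_inv := fun x => Subtype.ext (by simp [mul_assoc])
      right_inv := fun x => Subtype.ext (by simp [mul_assoc]) }
  refine Fintype.sum_equiv e _ _ fun x => ?_
  rw [← map_mul, ← map_mul]
  congr 1
  show a * (x : G) = a * x * a⁻¹ * a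
  group

theorem pow_twist [Fintype Q] {a : G} (ha : a ∈ Subgroup.normalizer (Q : Set G)) (j : ℕ) :
    (ρ a * avg ρ Q + (1 - avg ρ Q)) ^ j = ρ (a ^ j) * avg ρ Q + (1 - avg ρ Q) := by
  have h1 := avg_mul_avg ρ (Q := Q)
  induction j with
  | zero =>
    rw [pow_zero, pow_zero, map_one, one_mul, add_sub_cancel]
  | succ j ih =>
    rw [pow_succ, ih, pow_succ, map_mul]
    have h2 := rho_comm_avg ρ ha
    have e1 : ρ (a ^ j) * avg ρ Q * (ρ a * avg ρ Q) = ρ (a ^ j) * ρ a * avg ρ Q := by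
      rw [mul_assoc, ← mul_assoc (avg ρ Q), ← h2, mul_assoc, h1, ← mul_assoc]
    have e2 : (1 - avg ρ Q) * (ρ a * avg ρ Q) = 0 := by
      rw [h2, ← mul_assoc, sub_mul, one_mul, h1, sub_self, zero_mul]
    have e3 : ρ (a ^ j) * avg ρ Q * (1 - avg ρ Q) = 0 := by
      rw [mul_assoc, mul_sub, mul_one, h1, sub_self, mul_zero]
    have e4 : (1 - avg ρ Q) * (1 - avg ρ Q) = 1 - avg ρ Q := by
      rw [mul_sub, mul_one, sub_mul, one_mul, h1, sub_self, sub_zero]
    rw [add_mul, mul_add, mul_add, e1, e2, e3, e4]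
    abel

theorem trace_rho_avg [Fintype Q] (a : G) : LinearMap.trace ℂ V (ρ a * avg ρ Q) =
    (Nat.card Q : ℂ)⁻¹ * ∑ x : Q, ρ.character (a * x) := by
  unfold avg
  rw [mul_smul_comm, map_smul, Finset.mul_sum, map_sum, smul_eq_mul]
  congr 1
  refine Finset.sum_congr rfl fun x _ => ?_
  rw [← map_mul]
  rfl

end rep

/-- the dimension of the space of `Q`-fixed vectors -/
noncomputable def md (Q : Subgroup G) (χ : G → ℂ) : ℂ := (Nat.card Q : ℂ)⁻¹ * ∑ᶠ x : Q, χ x

theorem md_eq (Q : Subgroup G) [Fintype Q] (χ : G → ℂ) :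
    md Q χ = (Nat.card Q : ℂ)⁻¹ * ∑ x : Q, χ x := by
  unfold md
  rw [finsum_eq_sum_of_fintype]

theorem md_eq_classInner (Q : Subgroup G) [Fintype Q] (χ : G → ℂ) :
    md Q χ = classInner (fun x : Q => χ x) 1 := by
  rw [md_eq, classInner_def]
  simp

theorem exists_md (Q : Subgroup G) {χ : G → ℂ} (hχ : IsCharacter G χ) : ∃ n : ℕ, md Q χ = n := by
  have := Fintype.ofFinite Q
  rw [md_eq_classInner]
  exact classInner_isNat (isCharacter_comp Q.subtype hχ) isCharacter_one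

theorem md_bot {χ : G → ℂ} : md (⊥ : Subgroup G) χ = χ 1 := by
  have := Fintype.ofFinite (⊥ : Subgroup G)
  rw [md_eq, Fintype.sum_subsingleton _ (1 : (⊥ : Subgroup G))]
  simp

theorem md_eq_zero_iff (Q : Subgroup G) (χ : G → ℂ) : md Q χ = 0 ↔ NoFix Q χ := by
  unfold md NoFix
  rw [mul_eq_zero]
  simp only [inv_eq_zero, card_ne_zero_complex, false_or]

variable {M : Ideal AlgInt}

/-- twisting by a 2-element normalising `Q` -/
theorem twist_mem (hM : IsPModular 2 M) (Q : Subgroup G) [Fintype Q] {χ : G → ℂ} (hχ : IsCharacter G χ)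
    {a : G} (ha : a ∈ Subgroup.normalizer (Q : Set G)) {k : ℕ} (hk : a ^ 2 ^ k = 1) :
    MemLocalIdeal M ((Nat.card Q : ℂ)⁻¹ * ∑ x : Q, χ (a * x) - md Q χ) := by
  have hMp := isPrime_of_isPModular hM
  obtain ⟨d, hd⟩ := exists_md Q hχ
  obtain ⟨n, ρ, rfl⟩ := hχ
  have hpow : ∀ j : ℕ, (ρ a * avg ρ Q) ^ (j + 1) = ρ (a ^ (j + 1)) * avg ρ Q := by
    intro j
    induction j with
    | zero => rw [pow_one, pow_one]
    | succ j ih =>
      rw [pow_succ, ih, pow_succ a (j + 1), map_mul, mul_assoc, ← mul_assoc (avg ρ Q),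
        ← rho_comm_avg ρ ha, mul_assoc (ρ a), avg_mul_avg, ← mul_assoc]
  have hint : IsIntegral ℤ ((Nat.card Q : ℂ)⁻¹ * ∑ x : Q, ρ.character (a * x)) := by
    rw [← trace_rho_avg]
    refine Cfsg.Agent.CharactersDeep.TracePow.isIntegral_trace_of_pow_succ_eq _ (2 ^ k)
      (by positivity) ?_
    rw [hpow, pow_succ a, hk, one_mul]
  have htr : LinearMap.trace ℂ (Fin n → ℂ) (avg ρ Q) = md Q ρ.character := by
    have := trace_rho_avg ρ (Q := Q) 1
    rw [map_one, one_mul] at this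
    rw [this, md_eq]
    simp only [one_mul]
  have h1 : LinearMap.trace ℂ (Fin n → ℂ) (ρ a * avg ρ Q + (1 - avg ρ Q)) =
      (Nat.card Q : ℂ)⁻¹ * ∑ x : Q, ρ.character (a * x) + ((n : ℂ) - md Q ρ.character) := by
    rw [map_add, map_sub, trace_rho_avg, htr]
    congr 2
    rw [LinearMap.trace_one]
    simp
  have hint1 : IsIntegral ℤ ((Nat.card Q : ℂ)⁻¹ * ∑ x : Q, ρ.character (a * x) +
      ((n : ℂ) - md Q ρ.character)) := by
    refine hint.add ((isIntegral_natCast n).sub ?_)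
    rw [hd]
    exact isIntegral_natCast d
  have h := Cfsg.Agent.CharactersDeep.ModCongr.trace_sub_mem hM (ρ a * avg ρ Q + (1 - avg ρ Q))
    (1 : Module.End ℂ (Fin n → ℂ)) (2 ^ k) (by positivity)
    (by rw [pow_twist ρ ha, hk, map_one, one_mul, add_sub_cancel]) (one_pow _) k
    (by rw [pow_twist ρ ha, hk, map_one, one_mul, add_sub_cancel, one_pow])
    ⟨_, hint1⟩ ⟨(n : ℂ), isIntegral_natCast n⟩ h1.symm (by rw [LinearMap.trace_one]; simp)
  have h2 := memLocalIdeal_of_mem h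
  convert h2 using 1
  simp only [AddSubgroupClass.coe_sub]
  ring

/-- **Counting**: for `a` normalising `Q` (odd order) with `a²` centralising `Q`, and `C = C_Q(a)`,
`|C| ∑_{x ∈ Q} χ(a x) = |Q| ∑_{c ∈ C} χ(a c)`. -/
theorem count (Q C : Subgroup G) [Fintype Q] [Fintype C] (hQ : Odd (Nat.card Q)) {a : G}
    (ha : a ∈ Subgroup.normalizer (Q : Set G)) (ha2 : ∀ x ∈ Q, a * (a * x) = x * (a * a))
    (hC : ∀ x, x ∈ C ↔ x ∈ Q ∧ a * x = x * a) {χ : G → ℂ} (hχ : IsClassFunction G χ) :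
    (Nat.card C : ℂ) * ∑ x : Q, χ (a * x) = (Nat.card Q : ℂ) * ∑ c : C, χ (a * c) := by
  classical
  have hCQ : ∀ c : C, (c : G) ∈ Q := fun c => ((hC c).1 c.2).1
  have hCa : ∀ c : C, a * (c : G) = c * a := fun c => ((hC c).1 c.2).2
  have hai : ∀ x : Q, a⁻¹ * (x : G) * a ∈ Q := fun x => by
    have := (Subgroup.mem_normalizer_iff.1 (inv_mem ha) x).1 x.2
    rwa [inv_inv] at this
  let F : Q × C → Q := fun y => ⟨a⁻¹ * (y.1 : G) * a * (y.2 : G) * (y.1 : G)⁻¹,
    mul_mem (mul_mem (hai y.1) (hCQ y.2)) (inv_mem y.1.2)⟩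
  have hF : ∀ y : Q × C, a * (F y : G) = (y.1 : G) * (a * y.2) * (y.1 : G)⁻¹ := fun y => by
    show a * (a⁻¹ * (y.1 : G) * a * (y.2 : G) * (y.1 : G)⁻¹) = _
    group
  -- squares in `Q`
  have hsq : ∀ x y : G, x ∈ Q → y ∈ Q → x * x = y * y → x = y := by
    intro x y hx hy h
    obtain ⟨k, hk⟩ := hQ
    have h1 : ∀ z : G, z ∈ Q → (z * z) ^ (k + 1) = z := by
      intro z hz
      have h2 : z ^ Nat.card Q = 1 := by
        have := pow_card_eq_one' (x := (⟨z, hz⟩ : Q))
        exact congrArg Subtype.val this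
      calc (z * z) ^ (k + 1) = z ^ (2 * k + 1) * z := by
            rw [← pow_two, ← pow_mul, ← pow_succ]; congr 1
        _ = z := by rw [← hk, h2, one_mul]
    rw [← h1 x hx, ← h1 y hy, h]
  -- the fibres
  have hfib : ∀ x : Q, (Finset.univ.filter fun y : Q × C => F y = x).card ≤ Fintype.card C := by
    intro x
    rcases (Finset.univ.filter fun y : Q × C => F y = x).eq_empty_or_nonempty with h | ⟨y0, hy0⟩
    · rw [h, Finset.card_empty]
      exact Nat.zero_le _
    · have hy0' : F y0 = x := (Finset.mem_filter.1 hy0).2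
      have key : ∀ y : Q × C, F y = x → (y.1 : G)⁻¹ * y0.1 ∈ C := by
        intro y hy
        rw [hC]
        refine ⟨mul_mem (inv_mem y.1.2) y0.1.2, ?_⟩
        have e1 : (y.1 : G) * (a * y.2) * (y.1 : G)⁻¹ = (y0.1 : G) * (a * y0.2) * (y0.1 : G)⁻¹ := by
          rw [← hF, ← hF, hy, hy0']
        set u : G := (y.1 : G)⁻¹ * y0.1 with hu
        have huQ : u ∈ Q := mul_mem (inv_mem y.1.2) y0.1.2
        have e2 : a * (y.2 : G) = u * (a * y0.2) * u⁻¹ := by
          rw [hu]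
          have : ((y.1 : G)⁻¹ * (y0.1 : G)) * (a * y0.2) * ((y.1 : G)⁻¹ * (y0.1 : G))⁻¹ =
            (y.1 : G)⁻¹ * ((y0.1 : G) * (a * y0.2) * (y0.1 : G)⁻¹) * y.1 := by group
          rw [this, ← e1]
          group
        -- square
        have e3 : (a * a) * ((y.2 : G) * y.2) = (a * a) * (u * ((y0.2 : G) * y0.2) * u⁻¹) := by
          have s1 : (a * (y.2 : G)) * (a * y.2) = (a * a) * ((y.2 : G) * y.2) := by
            rw [mul_assoc, ← mul_assoc (y.2 : G) a, ← hCa]; group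
          have s2 : (a * (y0.2 : G)) * (a * y0.2) = (a * a) * ((y0.2 : G) * y0.2) := by
            rw [mul_assoc, ← mul_assoc (y0.2 : G) a, ← hCa]; group
          rw [← s1, e2]
          have s3 : u * (a * (y0.2 : G)) * u⁻¹ * (u * (a * y0.2) * u⁻¹) =
            u * ((a * (y0.2 : G)) * (a * y0.2)) * u⁻¹ := by group
          rw [s3, s2]
          have s4 := ha2 u huQ
          calc u * (a * a * ((y0.2 : G) * y0.2)) * u⁻¹ = (u * (a * a)) * ((y0.2 : G) * y0.2) * u⁻¹ := by group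
            _ = _ := by rw [← s4]; group
        have e4 := mul_left_cancel e3
        have e5 : (y.2 : G) = u * y0.2 * u⁻¹ := by
          refine hsq _ _ (hCQ _) (mul_mem (mul_mem huQ (hCQ _)) (inv_mem huQ)) ?_
          rw [e4]; group
        have e6 : a * u = u * a := by
          have e7 : a * (u * (y0.2 : G) * u⁻¹) = u * (a * y0.2) * u⁻¹ := by rw [← e5, e2]
          have e8 : a * u * (y0.2 : G) = u * a * y0.2 := by
            have := congrArg (fun z => z * u) e7
            simp only [mul_assoc] at this ⊢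
            simpa [mul_assoc] using this
          exact mul_right_cancel e8
        exact e6
      let f : {y : Q × C // F y = x} → C := fun y => ⟨(y.1.1 : G)⁻¹ * y0.1, key y.1 y.2⟩
      have hf : Function.Injective f := by
        rintro ⟨y, hy⟩ ⟨z, hz⟩ h
        have h1 : (y.1 : G)⁻¹ * y0.1 = (z.1 : G)⁻¹ * y0.1 := congrArg Subtype.val h
        have h2 : (y.1 : G) = z.1 := inv_injective (mul_right_cancel h1)
        have h3 : (y.2 : G) = z.2 := by
          have h4 : (F y : G) = F z := by rw [hy, hz]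
          have h5 := hF y
          rw [h4, hF z, h2] at h5
          have h6 := mul_left_cancel (mul_right_cancel h5)
          exact (mul_left_cancel h6).symm
        exact Subtype.ext (Prod.ext (Subtype.ext h2) (Subtype.ext h3))
      have h2 := Fintype.card_le_of_injective f hf
      rwa [Fintype.card_subtype] at h2
  have htot : ∑ x : Q, (Finset.univ.filter fun y : Q × C => F y = x).card = ∑ _x : Q, Fintype.card C := by
    rw [← Finset.card_eq_sum_card_fiberwise (s := (Finset.univ : Finset (Q × C)))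
      (t := (Finset.univ : Finset Q)) (f := F) (fun _ _ => Finset.mem_coe.2 (Finset.mem_univ _))]
    rw [Finset.card_univ, Fintype.card_prod, Finset.sum_const, Finset.card_univ, smul_eq_mul]
  have heq : ∀ x : Q, (Finset.univ.filter fun y : Q × C => F y = x).card = Fintype.card C := fun x =>
    (Finset.sum_eq_sum_iff_of_le fun x _ => hfib x).1 htot x (Finset.mem_univ _)
  have h1 : ∑ y : Q × C, χ (a * (F y : G)) = (Nat.card C : ℂ) * ∑ x : Q, χ (a * x) := by
    rw [← Finset.sum_fiberwise Finset.univ F, Finset.mul_sum]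
    refine Finset.sum_congr rfl fun x _ => ?_
    rw [Finset.sum_congr rfl fun y hy => by rw [(Finset.mem_filter.1 hy).2], Finset.sum_const, heq,
      nsmul_eq_mul, Nat.card_eq_fintype_card]
  have h2 : ∑ y : Q × C, χ (a * (F y : G)) = (Nat.card Q : ℂ) * ∑ c : C, χ (a * c) := by
    rw [Fintype.sum_prod_type]
    have h3 : ∀ q : Q, ∑ c : C, χ (a * (F (q, c) : G)) = ∑ c : C, χ (a * c) := fun q =>
      Finset.sum_congr rfl fun c _ => by rw [hF]; exact hχ _ _
    rw [Finset.sum_congr rfl fun q _ => h3 q, Finset.sum_const, Finset.card_univ, nsmul_eq_mul,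
      Nat.card_eq_fintype_card]
  rw [← h1, h2]

/-- the 2-part of `a c` -/
theorem apply_sub_apply (hM : IsPModular 2 M) {χ : G → ℂ} (hχ : IsCharacter G χ) {a c : G} {k : ℕ}
    (hk : a ^ 2 ^ k = 1) (hc : Odd (orderOf c)) (hac : a * c = c * a) :
    MemLocalIdeal M (χ (a * c) - χ c) := by
  have hMp := isPrime_of_isPModular hM
  have : Finite (IrrCharacter G) := finite_irr
  have := Fintype.ofFinite (IrrCharacter G)
  obtain ⟨m, rfl⟩ := isCharacter_iff.1 hχ
  simp only [Finset.sum_apply, Pi.smul_apply]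
  rw [← Finset.sum_sub_distrib]
  refine memLocalIdeal_sum fun ψ _ => ?_
  rw [← smul_sub, nsmul_eq_mul]
  refine memLocalIdeal_mul_left (memLocalRing_natCast _) ?_
  have h := Cfsg.Agent.CharactersDeep.ModCongr.memLocalIdeal_character_sub hM ψ.2 (a * c) a
    ⟨c, rfl, hac, ?_, ?_⟩
  · rwa [inv_mul_cancel_left] at h
  · obtain ⟨j, -, hj⟩ := (Nat.dvd_prime_pow Nat.prime_two).1 (orderOf_dvd_of_pow_eq_one hk)
    exact ⟨j, hj⟩
  · exact fun h2 => (Nat.not_even_iff_odd.2 hc) (even_iff_two_dvd.2 h2)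

/-- **One step.** -/
theorem step (Q C : Subgroup G) (hQ : Odd (Nat.card Q)) {a : G}
    (ha : a ∈ Subgroup.normalizer (Q : Set G)) (ha2 : ∀ x ∈ Q, a * (a * x) = x * (a * a)) {k : ℕ}
    (hk : a ^ 2 ^ k = 1) (hC : ∀ x, x ∈ C ↔ x ∈ Q ∧ a * x = x * a) {χ : G → ℂ}
    (hχ : IsCharacter G χ) : ∃ z : ℤ, md Q χ - md C χ = 2 * z := by
  have := Fintype.ofFinite Q
  have := Fintype.ofFinite C
  obtain ⟨M, hM⟩ := Cfsg.Agent.Blocks.ExistsModular.exists_isPModular Nat.prime_two
  have hMp := isPrime_of_isPModular hM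
  have hCQ : C ≤ Q := fun x hx => ((hC x).1 hx).1
  obtain ⟨m, hm⟩ := exists_md Q hχ
  obtain ⟨n, hn⟩ := exists_md C hχ
  have h1 := twist_mem hM Q hχ ha hk
  have hcount := count Q C hQ ha ha2 hC (isCharacter_isClassFunction hχ)
  have hQ0 : (Nat.card Q : ℂ) ≠ 0 := card_ne_zero_complex
  have hC0 : (Nat.card C : ℂ) ≠ 0 := card_ne_zero_complex
  have hCodd : Odd (Nat.card C) := hQ.of_dvd_nat (Subgroup.card_dvd_of_le hCQ)
  have h2 : (Nat.card Q : ℂ)⁻¹ * ∑ x : Q, χ (a * x) = (Nat.card C : ℂ)⁻¹ * ∑ c : C, χ (a * c) := by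
    field_simp
    linear_combination hcount
  have h3 : MemLocalIdeal M ((Nat.card C : ℂ)⁻¹ * ∑ c : C, χ (a * c) - md C χ) := by
    rw [md_eq, ← mul_sub, ← Finset.sum_sub_distrib]
    refine memLocalIdeal_mul_left (memLocalRing_inv_natCast hM fun h =>
      (Nat.not_even_iff_odd.2 hCodd) (even_iff_two_dvd.2 h)) (memLocalIdeal_sum fun c _ => ?_)
    refine apply_sub_apply hM hχ hk ?_ ((hC c).1 c.2).2
    rw [Subgroup.orderOf_coe]
    exact hCodd.of_dvd_nat (orderOf_dvd_natCard c)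
  rw [h2] at h1
  have h4 : MemLocalIdeal M (md Q χ - md C χ) := by
    have := memLocalIdeal_sub h3 h1
    convert this using 1
    ring
  rw [hm, hn] at h4 ⊢
  have h5 : ((m : ℂ) - n) = (((m : ℤ) - n : ℤ) : ℂ) := by push_cast; rfl
  rw [h5, memLocalIdeal_intCast_iff hM] at h4
  obtain ⟨z, hz⟩ := h4
  refine ⟨z, ?_⟩
  rw [h5, hz]
  push_cast
  ring

/-- **Lemma (E).** -/
theorem parity (A : Subgroup G) (hA : IsPGroup 2 A) {χ : G → ℂ} (hχ : IsCharacter G χ) :
    ∀ (n : ℕ) (Q C : Subgroup G), Nat.card Q = n → Odd (Nat.card Q) →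
      A ≤ Subgroup.normalizer (Q : Set G) → (∀ x, x ∈ C ↔ x ∈ Q ∧ ∀ a ∈ A, a * x = x * a) →
      ∃ z : ℤ, md Q χ - md C χ = 2 * z := by
  intro n
  induction n using Nat.strong_induction_on with
  | _ n ih =>
  intro Q C hn hQ hnorm hC
  by_cases hcent : ∀ a ∈ A, ∀ x ∈ Q, a * x = x * a
  · refine ⟨0, ?_⟩
    have : C = Q := by
      ext x
      rw [hC]
      exact ⟨fun h => h.1, fun h => ⟨h, fun a ha => hcent a ha x h⟩⟩
    rw [this]
    simp
  -- the kernel of the action of `A` on `Q`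
  let K : Subgroup A := (Subgroup.centralizer (Q : Set G)).subgroupOf A
  have hK : K.Normal := by
    refine ⟨fun x hx g => ?_⟩
    rw [Subgroup.mem_subgroupOf, Subgroup.mem_centralizer_iff] at hx ⊢
    intro q hq
    have h1 : (g : G)⁻¹ * q * g ∈ Q := by
      have := (Subgroup.mem_normalizer_iff.1 (inv_mem (hnorm g.2)) q).1 hq
      rwa [inv_inv] at this
    have h2 := hx _ h1
    show q * ((g : G) * x * (g : G)⁻¹) = (g : G) * x * (g : G)⁻¹ * q
    calc q * ((g : G) * x * (g : G)⁻¹) = g * (((g : G)⁻¹ * q * g) * x) * (g : G)⁻¹ := by group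
      _ = g * (x * ((g : G)⁻¹ * q * g)) * (g : G)⁻¹ := by rw [h2]
      _ = _ := by group
  have hAK : IsPGroup 2 (A ⧸ K) := hA.to_quotient K
  have hnt : Nontrivial (A ⧸ K) := by
    by_contra hcon
    rw [not_nontrivial_iff_subsingleton] at hcon
    apply hcent
    intro a ha x hx
    have h1 : (QuotientGroup.mk (⟨a, ha⟩ : A) : A ⧸ K) = 1 := Subsingleton.elim _ _
    rw [QuotientGroup.eq_one_iff, Subgroup.mem_subgroupOf, Subgroup.mem_centralizer_iff] at h1
    exact (h1 x hx).symm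
  have hZ : Nontrivial (Subgroup.center (A ⧸ K)) := hAK.center_nontrivial
  obtain ⟨⟨z, hz⟩, hz1⟩ := exists_ne (1 : Subgroup.center (A ⧸ K))
  have hz1' : z ≠ 1 := fun h => hz1 (Subtype.ext h)
  -- a central involution
  obtain ⟨z', hz'c, hz'1, hz'2⟩ : ∃ z' : A ⧸ K, z' ∈ Subgroup.center (A ⧸ K) ∧ z' ≠ 1 ∧ z' ^ 2 = 1 := by
    obtain ⟨j, hj⟩ := (IsPGroup.iff_orderOf.1 hAK) z
    have hj0 : j ≠ 0 := by
      rintro rfl
      rw [pow_zero, orderOf_eq_one_iff] at hj
      exact hz1' hj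
    obtain ⟨i, rfl⟩ := Nat.exists_eq_succ_of_ne_zero hj0
    refine ⟨z ^ 2 ^ i, pow_mem hz _, fun h => ?_, ?_⟩
    · have := orderOf_dvd_of_pow_eq_one h
      rw [hj] at this
      have := Nat.le_of_dvd (by positivity) this
      have h2 : 2 ^ i < 2 ^ (i + 1) := Nat.pow_lt_pow_right (by norm_num) (by omega)
      omega
    · rw [← pow_mul, ← pow_succ, ← hj, pow_orderOf_eq_one]
  obtain ⟨b, rfl⟩ := QuotientGroup.mk_surjective z'
  have hb1 : ¬ ((b : G) ∈ Subgroup.centralizer (Q : Set G)) := fun h => hz'1 ((QuotientGroup.eq_one_iff _).2 h)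
  have hb2 : (b : G) * b ∈ Subgroup.centralizer (Q : Set G) := by
    have h1 : (QuotientGroup.mk (b * b) : A ⧸ K) = 1 := by
      rw [QuotientGroup.mk_mul, ← pow_two]; exact hz'2
    exact Subgroup.mem_subgroupOf.1 ((QuotientGroup.eq_one_iff (N := K) (b * b)).1 h1)
  have hbc : ∀ g : A, (g : G)⁻¹ * b * g * (b : G)⁻¹ ∈ Subgroup.centralizer (Q : Set G) := by
    intro g
    have h1 : (QuotientGroup.mk (g⁻¹ * b * g * b⁻¹) : A ⧸ K) = 1 := by
      rw [QuotientGroup.mk_mul, QuotientGroup.mk_mul, QuotientGroup.mk_mul, QuotientGroup.mk_inv,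
        QuotientGroup.mk_inv]
      have := Subgroup.mem_center_iff.1 hz'c (QuotientGroup.mk g)
      rw [mul_assoc (QuotientGroup.mk g)⁻¹, ← this, inv_mul_cancel_left, mul_inv_cancel]
    exact Subgroup.mem_subgroupOf.1 ((QuotientGroup.eq_one_iff (N := K) (g⁻¹ * b * g * b⁻¹)).1 h1)
  rw [Subgroup.mem_centralizer_iff] at hb2
  let D : Subgroup G := Q ⊓ Subgroup.centralizer {(b : G)}
  have hD : ∀ x, x ∈ D ↔ x ∈ Q ∧ (b : G) * x = x * b := by
    intro x
    rw [Subgroup.mem_inf, Subgroup.mem_centralizer_singleton_iff]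
    exact ⟨fun h => ⟨h.1, h.2.symm⟩, fun h => ⟨h.1, h.2.symm⟩⟩
  obtain ⟨k, hk⟩ := hA b
  have hk' : (b : G) ^ 2 ^ k = 1 := by
    have := congrArg Subtype.val hk
    simpa using this
  obtain ⟨z1, h1⟩ := step Q D hQ (hnorm b.2) (fun x hx => by
    rw [← mul_assoc]; exact (hb2 x hx).symm) hk' hD hχ
  have hDQ : D ≤ Q := inf_le_left
  have hlt : Nat.card D < n := by
    rw [← hn]
    refine lt_of_le_of_ne (Nat.le_of_dvd Nat.card_pos (Subgroup.card_dvd_of_le hDQ)) fun he => ?_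
    have h2 : D = Q := Subgroup.eq_of_le_of_card_ge hDQ he.ge
    apply hb1
    rw [Subgroup.mem_centralizer_iff]
    intro x hx
    rw [← h2] at hx
    exact ((hD x).1 hx).2.symm
  have hDn : A ≤ Subgroup.normalizer (D : Set G) := by
    have key : ∀ g ∈ A, ∀ x ∈ D, g * x * g⁻¹ ∈ D := by
      intro g hg x hx
      rw [hD] at hx ⊢
      refine ⟨(Subgroup.mem_normalizer_iff.1 (hnorm hg) x).1 hx.1, ?_⟩
      have h2 := Subgroup.mem_centralizer_iff.1 (hbc ⟨g, hg⟩) x hx.1
      simp only at h2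
      -- `g⁻¹ b g` acts on `x` as `b`
      have h3 : (g⁻¹ * (b : G) * g) * x = x * (g⁻¹ * (b : G) * g) := by
        have e1 : g⁻¹ * (b : G) * g = (g⁻¹ * (b : G) * g * (b : G)⁻¹) * b := by group
        rw [e1, mul_assoc, hx.2, ← mul_assoc, ← h2, mul_assoc]
      calc (b : G) * (g * x * g⁻¹) = g * ((g⁻¹ * (b : G) * g) * x) * g⁻¹ := by group
        _ = g * (x * (g⁻¹ * (b : G) * g)) * g⁻¹ := by rw [h3]
        _ = g * x * g⁻¹ * b := by group
    intro g hg
    rw [Subgroup.mem_normalizer_iff]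
    intro x
    refine ⟨key g hg x, fun h => ?_⟩
    have := key g⁻¹ (inv_mem hg) _ h
    have e : g⁻¹ * (g * x * g⁻¹) * g⁻¹⁻¹ = x := by group
    rwa [e] at this
  obtain ⟨z2, h2⟩ := ih (Nat.card D) hlt D C rfl (hQ.of_dvd_nat (Subgroup.card_dvd_of_le hDQ)) hDn (by
    intro x
    rw [hC, hD]
    exact ⟨fun h => ⟨⟨h.1, h.2 b b.2⟩, h.2⟩, fun h => ⟨h.1.1, h.2⟩⟩)
  refine ⟨z1 + z2, ?_⟩
  push_cast
  linear_combination h1 + h2

/-- **Lemma (E)**, trivial centralizer. -/
theorem parity_one (Q A : Subgroup G) (hQ : Odd (Nat.card Q)) (hA : IsPGroup 2 A)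
    (hn : A ≤ Subgroup.normalizer (Q : Set G)) (hfix : ∀ u ∈ Q, (∀ a ∈ A, a * u = u * a) → u = 1)
    {χ : G → ℂ} (hχ : IsCharacter G χ) : ∃ z : ℤ, md Q χ - χ 1 = 2 * z := by
  obtain ⟨z, hz⟩ := parity A hA hχ (Nat.card Q) Q ⊥ rfl hQ hn (by
    intro x
    rw [Subgroup.mem_bot]
    constructor
    · rintro rfl
      exact ⟨one_mem _, fun a _ => by rw [mul_one, one_mul]⟩
    · exact fun h => hfix x h.1 h.2)
  rw [md_bot] at hz
  exact ⟨z, hz⟩

theorem even_of_md {χ : IrrCharacter G} {Q : Subgroup G} {z : ℤ} (h : md Q (χ : G → ℂ) - (χ : G → ℂ) 1 = 2 * z)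
    {m : ℤ} (hm : md Q (χ : G → ℂ) = 2 * m) : 2 ∣ charDegree (χ : G → ℂ) := by
  rw [hm, Cfsg.Agent.Blocks.Basic.irr_one_eq_charDegree χ.2] at h
  have h1 : (2 * m - (charDegree (χ : G → ℂ) : ℤ) : ℤ) = 2 * z := by exact_mod_cast h
  omega

/-- A character without fixed vectors of the Sylow `r`-subgroups has even degree. -/
theorem par_of_inv2 {r : ℕ} [Fact r.Prime] (hr : r ≠ 2) (h : Inv2 r G) : Par r G := by
  obtain ⟨U, A, hA, hn, hfix⟩ := h
  intro χ hχ
  have hU : Odd (Nat.card (U : Subgroup G)) := by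
    obtain ⟨k, hk⟩ := IsPGroup.iff_card.1 U.isPGroup'
    rw [hk]
    exact ((Fact.out : r.Prime).odd_of_ne_two hr).pow
  obtain ⟨z, hz⟩ := parity_one (U : Subgroup G) A hU hA hn hfix (isIrr_isCharacter χ.2)
  exact even_of_md hz (m := 0) (by rw [(md_eq_zero_iff _ _).2 (hχ U)]; simp)

end Cfsg.Agent.H892.EP
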