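import Cfsg.Agent.H269.EP.EvenFinal
import Cfsg.Agent.H925.EP.TmPSL
import Cfsg.Agent.H118.EP.Psu
import Cfsg.Agent.H848.EP.Orth
import Cfsg.Agent.H848.EP.OrthMinus
import Cfsg.Agent.H177.EP.TMExc
import Cfsg.Agent.H957.EP.TMTw

/-!
# S4929: the pieces in the form used by the assembly (`PcTM`)
-/

set_option autoImplicit false
set_option linter.unusedSectionVars false
set_option linter.unusedVariables false

open Cfsg Cfsg.Agent.Characters.Core Cfsg.Agent.H892.EP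
open CoxeterSystem Cfsg.Agent.ChevalleyStructure.CoxeterGeom Cfsg.Agent.Tits.Roots Cfsg.Agent.Tits.Core
  Cfsg.Agent.Nodes.Reps Cfsg.Agent.Nodes.BNOf Cfsg.Agent.Omega.EH3.Kf.Lev Cfsg.Agent.Nodes.StabComb
open Matrix

namespace Cfsg.Agent.H892.EP.Pc

universe u v

theorem ev_even {Y : Type u} [Group Y] [Finite Y] {m : ℕ} (hTM : HasTM 2 m Y) : Ev Y :=
  Cfsg.Agent.H269.EP.ev_even hTM

section TM

variable {F : Type} [Field F] [Fintype F] {r : ℕ} [Fact r.Prime] [CharP F r]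

theorem tm_psl {n : ℕ} (hn : 3 ≤ n) : HasTM r (Fintype.card F - 1) (ProjectiveSpecialLinearGroup (Fin n) F) :=
  Cfsg.Agent.H925.EP.tm_psl hn

theorem tm_psp {m : ℕ} (hm : 2 ≤ m) (hF : 2 < Fintype.card F) : HasTM r (Fintype.card F - 1) (PSp m F) :=
  Cfsg.Agent.H118.EP.tm_psp' hm hF

theorem tm_psu {n q : ℕ} (hq : Fintype.card F = q ^ 2) (hn : 4 ≤ n) : HasTM r (q ^ 2 - 1) (PSU n F q) :=
  Cfsg.Agent.H118.EP.tm_psu hq hn

theorem tm_oodd {m : ℕ} (hm : 3 ≤ m) (ho : Odd (Fintype.card F)) :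
    HasTM r (Fintype.card F - 1) (POmega F (quadFormOdd m F)) :=
  Cfsg.Agent.H848.EP.tm_oodd hm ho

theorem tm_oplus {m : ℕ} (hm : 4 ≤ m) : HasTM r (Fintype.card F - 1) (POmega F (quadFormPlus m F)) :=
  Cfsg.Agent.H848.EP.tm_oplus hm

theorem tm_ominus {m : ℕ} (hm : 4 ≤ m) (a b : F)
    (hab : ∀ z₁ z₂ : F, z₁ ^ 2 + a * z₁ * z₂ + b * z₂ ^ 2 = 0 → z₁ = 0 ∧ z₂ = 0) :
    HasTM r (Fintype.card F - 1) (POmega F (quadFormMinus (m - 1) F a b)) :=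
  Cfsg.Agent.H848.EP.tm_ominus hm a b hab

theorem tm_g2 (hF : 3 ≤ Fintype.card F) : HasTM r (Fintype.card F - 1) ↥(Lie.chevG2.group F) :=
  Cfsg.Agent.H177.EP.tm_g2 hF

theorem tm_f4 (hF : 3 ≤ Fintype.card F) : HasTM r (Fintype.card F - 1) ↥(Lie.chevF4.group F) :=
  Cfsg.Agent.H177.EP.tm_f4 hF

theorem tm_e6 : HasTM r (Fintype.card F - 1) ↥(Lie.chevE6.group F) :=
  Cfsg.Agent.H177.EP.tm_e6

theorem tm_e7 : HasTM r (Fintype.card F - 1) ↥(Lie.chevE7.group F) :=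
  Cfsg.Agent.H177.EP.tm_e7

theorem tm_e8 : HasTM r (Fintype.card F - 1) ↥(Lie.chevE8.group F) :=
  Cfsg.Agent.H177.EP.tm_e8

theorem tm_te6 {q : ℕ} (hq : IsPrimePow q) (hF : Fintype.card F = q ^ 2) : HasTM r (q ^ 2 - 1) (Lie.twistedE6 F q) :=
  Cfsg.Agent.H957.EP.tm_te6 hq hF

theorem tm_td4 {q : ℕ} (hq : IsPrimePow q) (hF : Fintype.card F = q ^ 3) : HasTM r (q ^ 3 - 1) (Lie.twistedD4 F q) :=
  Cfsg.Agent.H957.EP.tm_td4 hq hF

end TM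

end Cfsg.Agent.H892.EP.Pc
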